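import Cfsg.Agent.Lib.MaxSub.TWr.Invol
import Cfsg.Agent.Lib.MaxSub.TensorOMinus

/-!
`O3 ⊗ O3` with the exchange of the factors: the discriminant of a three-space, and an axial involution with an
axis of discriminant class is a commutator of the isometry group of the product.
-/

set_option autoImplicit false
set_option linter.unusedSectionVars false
set_option linter.unusedSimpArgs false
set_option linter.style.haveILetI false
set_option maxHeartbeats 1000000

namespace CfsgLib.MaxSub.TWr

open Module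
open CfsgLib.MaxSub
open CfsgLib.Geom
open QuadraticMap (polar)
open CfsgLib.MaxSub.TForm (sgn IsFr SymNd)

variable {F : Type*} [Field F] [Fintype F]

section Forms

variable {M : Type*} [AddCommGroup M] [Module F M] [FiniteDimensional F M]

/-- the products of the values of two frames differ by a square -/
theorem frame_prod {f : M →ₗ[F] M →ₗ[F] F} {n : ℕ} (hn : finrank F M = n) {a a' : Fin n → M}
    (ha : IsFr f a) (ha' : IsFr f a') :
    ∃ k : F, k ≠ 0 ∧ ∏ i, f (a' i) (a' i) = k * k * ∏ i, f (a i) (a i) := by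
  classical
  let bA := Basis.mk ha.linearIndependent (ha.span_eq_top hn).ge
  have hb : ∀ i, bA i = a i := fun i => Basis.mk_apply _ _ i
  let α : M →ₗ[F] M := bA.constr F a'
  have hα : ∀ i, α (bA i) = a' i := fun i => bA.constr_basis F a' i
  have e0 : LinearMap.toMatrix₂ bA bA f = Matrix.diagonal fun i => f (a i) (a i) := by
    ext i j
    rcases eq_or_ne i j with rfl | hij
    · simp [LinearMap.toMatrix₂_apply, hb]
    · simp [LinearMap.toMatrix₂_apply, hb, hij, ha.orth i j hij]
  have e1 : LinearMap.toMatrix₂ bA bA (f.compl₁₂ α α) = Matrix.diagonal fun i => f (a' i) (a' i) := by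
    ext i j
    rcases eq_or_ne i j with rfl | hij
    · simp [LinearMap.toMatrix₂_apply, hα]
    · simp [LinearMap.toMatrix₂_apply, hα, hij, ha'.orth i j hij]
  rw [LinearMap.toMatrix₂_compl₁₂ bA bA] at e1
  have e2 := congrArg Matrix.det e1
  rw [Matrix.det_mul, Matrix.det_mul, Matrix.det_transpose, LinearMap.det_toMatrix, e0, Matrix.det_diagonal,
    Matrix.det_diagonal] at e2
  refine ⟨LinearMap.det α, fun h0 => ?_, by rw [← e2]; ring⟩
  rw [h0, zero_mul, zero_mul] at e2
  exact Finset.prod_ne_zero_iff.2 (fun i _ => ha'.aniso i) e2.symm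

end Forms

variable {ι : Type} [Fintype ι] [DecidableEq ι]
variable {A B : Type*} [AddCommGroup A] [Module F A] [AddCommGroup B] [Module F B]
  [FiniteDimensional F A] [FiniteDimensional F B]

/-- an anisotropic vector has an orthogonal one whose axial involution is a commutator -/
theorem exists_ax_mem (Qf : QuadraticForm F (ι → F)) (hsep : ∀ x, (∀ y, polar Qf x y = 0) → x = 0)
    (h5 : 5 ≤ finrank F (ι → F)) (τ : A →ₗ[F] B →ₗ[F] (ι → F)) {fA : A →ₗ[F] A →ₗ[F] F}
    {fB : B →ₗ[F] B →ₗ[F] F} (hA : SymNd fA) (hB : SymNd fB)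
    (hform : ∀ a b a' b', polar Qf (τ a b) (τ a' b') = fA a a' * fB b b')
    (hdA : finrank F A = 3) (hdB : finrank F B = 3) {a : A} (ha : fA a a ≠ 0) :
    ∃ u, fA a u = 0 ∧ fA u u ≠ 0 ∧ ∃ k : quadIsoms Qf, k ∈ commutator (quadIsoms Qf) ∧
      ∀ x b, k.1 (τ x b) = τ (refl fA u x) b := by
  classical
  have h2 := hA.two
  have hself : ∀ x, polar Qf x x = 2 * Qf x := fun x => by
    rw [QuadraticMap.polar_self, nsmul_eq_mul, Nat.cast_ofNat]
  obtain ⟨a', ha'⟩ := hA.exists_fr hdA
  set d := ∏ i, fA (a' i) (a' i) with hd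
  have hd0 : d ≠ 0 := Finset.prod_ne_zero_iff.2 fun i _ => ha'.aniso i
  obtain ⟨b₁, b₂, hfr⟩ := exists_fr_through hA hdA ha
  obtain ⟨u, -, hu, -, -, hum, -⟩ := TensorOMinus.exists_value_pair hA (e := b₁) (e' := b₂)
    (by simpa using hfr.aniso 1) (by simpa using hfr.aniso 2) (by simpa using hfr.orth 1 2 (by decide)) hd0
  have hau : fA a u = 0 := by
    obtain ⟨p, q, rfl⟩ := Submodule.mem_span_pair.1 hum
    have e1 : fA a b₁ = 0 := by simpa using hfr.orth 0 1 (by decide)
    have e2 : fA a b₂ = 0 := by simpa using hfr.orth 0 2 (by decide)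
    simp [e1, e2]
  have hu0 : fA u u ≠ 0 := by rw [hu]; exact hd0
  have hua : fA u a = 0 := by rw [hA.symm]; exact hau
  obtain ⟨w, hfu⟩ := exists_fr_pair hA hdA hu0 ha hua
  have hw : fA w w ≠ 0 := by simpa using hfu.aniso 2
  have huw : fA u w = 0 := by simpa using hfu.orth 0 2 (by decide)
  have haw : fA a w = 0 := by simpa using hfu.orth 1 2 (by decide)
  obtain ⟨k₀, hk₀, hprod⟩ := frame_prod hdA ha' hfu
  simp only [Fin.prod_univ_three, Matrix.cons_val_zero, Matrix.cons_val_one, Matrix.cons_val,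
    Matrix.head_cons, hu] at hprod
  rw [← Fin.prod_univ_three fun i => fA (a' i) (a' i), ← hd] at hprod
  have hsq : fA a a * fA w w = k₀ * k₀ := mul_left_cancel₀ hd0 (by linear_combination hprod)
  set w' := (fA a a / k₀) • w with hw'
  have hval : fA w' w' = fA a a := by
    simp only [hw', map_smul, LinearMap.smul_apply, smul_eq_mul]
    field_simp
    linear_combination hsq
  have haw' : fA a w' = 0 := by simp [hw', haw]
  have hw'a : fA w' a = 0 := by rw [hA.symm]; exact haw'
  have huw' : fA u w' = 0 := by simp [hw', huw]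
  obtain ⟨b, hb⟩ := hB.exists_fr hdB
  obtain ⟨k, hk, hneg, hfix⟩ := TensorOMinus.refl_family Qf hsep h5 h2 (fun i => τ a (b i)) (fun i => τ w' (b i))
    (fun i e => mul_ne_zero ha (hb.aniso i) (by rw [← hform, hself, e, mul_zero]))
    (fun i => mul_left_cancel₀ h2 (by rw [← hself, ← hself, hform, hform, hval]))
    (fun i => by simp [hform, haw'])
    (fun i j hij => by simp [hform, hb.orth i j hij])
  refine ⟨u, hau, hu0, k, hk, fun x y => ?_⟩
  refine LinearMap.congr_fun (LinearMap.congr_fun (LinearMap.ext_on_range (hfu.span_eq_top hdA)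
    (f := τ.compr₂ (k.1 : (ι → F) →ₗ[F] (ι → F))) (g := τ.comp (refl fA u)) fun i =>
      LinearMap.ext_on_range (hb.span_eq_top hdB) fun j => ?_) x) y
  fin_cases i
  · show k.1 (τ u (b j)) = τ (refl fA u u) (b j)
    rw [refl_self hu0]
    exact hfix _ fun t => by simp [hform, hau, (hA.symm u w').trans huw']
  · show k.1 (τ a (b j)) = τ (refl fA u a) (b j)
    rw [refl_perp hua, (hneg j).1, map_neg, LinearMap.neg_apply]
  · show k.1 (τ w (b j)) = τ (refl fA u w) (b j)
    have h := (hneg j).2
    simp only [hw', map_smul, LinearMap.smul_apply] at h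
    rw [← smul_neg] at h
    rw [refl_perp huw, map_neg, LinearMap.neg_apply]
    exact smul_right_injective (ι → F) (div_ne_zero ha hk₀) h

end CfsgLib.MaxSub.TWr
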