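import Cfsg.Agent.Lib.MaxSub.TWr.Main
import Cfsg.Agent.Lib.MaxSub.TWr.Disc

/-!
The stabiliser of a decomposition of a nine-space as a product of two three-spaces, the factors allowed to be
exchanged, is maximal in `Ω9`, odd characteristic, field of at least five elements.
-/

set_option autoImplicit false
set_option linter.unusedSectionVars false
set_option linter.unusedSimpArgs false
set_option linter.style.haveILetI false
set_option maxHeartbeats 1000000

namespace CfsgLib.MaxSub.TWr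

open Module
open CfsgLib.MaxSub
open scoped MatrixGroups
open CfsgLib.Classical (glLin glLin_apply)
open CfsgLib.Geom
open QuadraticMap (polar)
open CfsgLib.MaxSub.TForm (sgn IsFr SymNd IsKron)

variable {F : Type*} [Field F] [Fintype F]
variable {ι : Type} [Fintype ι] [DecidableEq ι]
variable {A B : Type*} [AddCommGroup A] [Module F A] [AddCommGroup B] [Module F B]
  [FiniteDimensional F A] [FiniteDimensional F B]

/-- maximality of the stabiliser of `O3 ⊗ O3` with the exchange of the factors -/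
theorem abstract_maximal (Qf : QuadraticForm F (ι → F)) (hsep : ∀ x, (∀ y, polar Qf x y = 0) → x = 0)
    (hι : 5 ≤ Fintype.card ι) (S : Subgroup (GL ι F)) (τ : A →ₗ[F] B →ₗ[F] (ι → F))
    (hSmem : ∀ g : GL ι F, g ∈ S ↔
      (∃ (Mf : A →ₗ[F] A) (hf : B →ₗ[F] B), ∀ a b, glLin g (τ a b) = τ (Mf a) (hf b)) ∨
        ∃ (Mf : A →ₗ[F] B) (hf : B →ₗ[F] A), ∀ a b, glLin g (τ a b) = τ (hf b) (Mf a))
    {fA : A →ₗ[F] A →ₗ[F] F} {fB : B →ₗ[F] B →ₗ[F] F} (hA : SymNd fA) (hB : SymNd fB)
    (hspan : Submodule.span F (Set.range fun p : A × B => τ p.1 p.2) = ⊤)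
    (hform : ∀ a b a' b', polar Qf (τ a b) (τ a' b') = fA a a' * fB b b')
    (hC : ∀ φ : Module.Dual F B, ∃ C : (ι → F) →ₗ[F] A, ∀ a b, C (τ a b) = φ b • a)
    (hC' : ∀ φ : Module.Dual F A, ∃ C : (ι → F) →ₗ[F] B, ∀ a b, C (τ a b) = φ a • b)
    (hdA : finrank F A = 3) (hdB : finrank F B = 3) (hbig : ∃ R : F, R ≠ 0 ∧ R * R ≠ 1) :
    Cfsg.Geo.IsMaximalIn (Cfsg.Geo.omegaGL (⇑Qf)) (S ⊓ Cfsg.Geo.omegaGL (⇑Qf)) := by
  classical
  have h2 := hA.two
  have h5 : 5 ≤ finrank F (ι → F) := by rwa [Module.finrank_fintype_fun_eq_card]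
  choose C hCt using fun w : B => hC (fB.flip w)
  choose C' hC't using fun x : A => hC' (fA.flip x)
  let T : TForm.Sys F A B (ι → F) (RingHom.id F) :=
    { tau := τ, fA := fA, fB := fB, form := QuadraticMap.polarBilin Qf, C := C, C' := C' }
  set K := Cfsg.Geo.omegaGL (⇑Qf) with hK
  have hKmap : K = (commutator (quadIsoms Qf)).map (isomsToGL Qf) := omegaGL_eq_map Qf
  have hlin : ∀ (k : quadIsoms Qf) x, glLin (isomsToGL Qf k) x = k.1 x := fun k x => by
    rw [glLin_apply, isomsToGL_mulVec]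
  have hself : ∀ x, polar Qf x x = 2 * Qf x := fun x => by
    rw [QuadraticMap.polar_self, nsmul_eq_mul, Nat.cast_ofNat]
  have hspan' : Submodule.span F (Set.range fun p : B × A => τ.flip p.1 p.2) = ⊤ := by
    rw [← hspan]
    congr 1
    ext x
    exact ⟨fun ⟨p, hp⟩ => ⟨(p.2, p.1), hp⟩, fun ⟨p, hp⟩ => ⟨(p.2, p.1), hp⟩⟩
  have hform' : ∀ b a b' a', polar Qf (τ.flip b a) (τ.flip b' a') = fB b b' * fA a a' := fun b a b' a' => by
    show polar Qf (τ a b) (τ a' b') = _
    rw [hform, mul_comm]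
  refine ⟨lt_of_le_of_ne inf_le_right ?_, fun M hM1 hM2 => ?_⟩
  swap
  · set H : Subgroup ((ι → F) ≃ₗ[F] (ι → F)) := M.map glLin.toMonoidHom with hHdef
    have hIn : ∀ (k : quadIsoms Qf) (Mf : A →ₗ[F] A) (hf : B →ₗ[F] B),
        k ∈ commutator (quadIsoms Qf) →
        (∀ a b, k.1 (τ a b) = τ (Mf a) (hf b)) → k.1 ∈ H := by
      intro k Mf hf hk hab
      refine ⟨isomsToGL Qf k, hM1 ⟨(hSmem _).2 (Or.inl ⟨Mf, hf, fun a b => by rw [hlin]; exact hab a b⟩), ?_⟩,
        LinearEquiv.ext fun x => hlin k x⟩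
      rw [hKmap]
      exact Subgroup.mem_map_of_mem _ hk
    have D : WData T H :=
      { symA := hA
        symB := hB
        form_tau := hform
        C_tau := fun w a b => hCt w a b
        C'_tau := fun x a b => hC't x a b
        span := hspan
        isom := by
          rintro _ ⟨g, hg, rfl⟩ x y
          obtain ⟨g', -, rfl⟩ := (hKmap ▸ hM2 hg :)
          show polar Qf (glLin (isomsToGL Qf g') x) (glLin (isomsToGL Qf g') y) = polar Qf x y
          rw [hlin, hlin]
          exact OrthSub.polar_map g' x y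
        genA := fun g hg => by
          obtain ⟨k, hk, hkab⟩ := TensorOO.lift_gen Qf hsep (by omega) hA hspan hform hC' hg
          exact ⟨k.1, hIn k g.toLinearMap LinearMap.id hk hkab, hkab⟩
        genB := fun g hg => by
          obtain ⟨k, hk, hkab⟩ := TensorOO.lift_gen Qf hsep (by omega) (τ := τ.flip) (f' := fA) hB hspan'
            hform' (fun φ => by
              obtain ⟨C, hC⟩ := hC φ
              exact ⟨C, fun b a => hC a b⟩) hg
          exact ⟨k.1, hIn k LinearMap.id g.toLinearMap hk fun a b => hkab b a, fun a b => hkab b a⟩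
        dimA := hdA
        dimB := hdB
        big := hbig
        axA := fun a ha => by
          obtain ⟨u, hau, hu, k, hk, hku⟩ := exists_ax_mem Qf hsep h5 τ hA hB hform hdA hdB ha
          exact ⟨u, hau, hu, k.1, hIn k (refl fA u) LinearMap.id hk hku, hku⟩
        axB := fun b hb => by
          obtain ⟨u, hbu, hu, k, hk, hku⟩ := exists_ax_mem Qf hsep h5 τ.flip hB hA hform' hdB hdA hb
          exact ⟨u, hbu, hu, k.1, hIn k LinearMap.id (refl fB u) hk fun a b => hku b a, hku⟩ }
    by_cases hno : TForm.NoFrame T H ∧ TForm.NoFrame (flipSys T) H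
    · left
      refine le_antisymm (fun g hg => ⟨?_, hM2 hg⟩) hM1
      exact (hSmem g).2 (D.gd_all hno.1 hno.2 (glLin g) ⟨g, hg, rfl⟩)
    · right
      refine le_antisymm hM2 ?_
      obtain ⟨v, hv0, hv⟩ := hA.exists_iso_top hdA.ge
      obtain ⟨v', hv', hvv', -⟩ := hA.partner hv0 hv
      obtain ⟨z, hz0, hz⟩ := hB.exists_iso_top (by omega)
      obtain ⟨z', hz', hzz', -⟩ := hB.partner hz0 hz
      have hq : ∀ a b, fA a a = 0 → Qf (τ a b) = 0 := fun a b ha => by
        have h := hself (τ a b)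
        rw [hform, ha, zero_mul] at h
        exact (mul_eq_zero.1 h.symm).resolve_left h2
      have hfullT : ∀ a b, a ≠ 0 → fA a a = 0 → b ≠ 0 → fB b b = 0 → TForm.FullAt T H (τ a b) := by
        intro a b ha haa hb hbb
        by_cases h1 : TForm.NoFrame T H
        · exact D.flip.full_pure (fun h => hno ⟨h1, h⟩) hb hbb ha haa
        · exact D.full_pure h1 ha haa hb hbb
      have hfull : ∀ a b, a ≠ 0 → fA a a = 0 → b ≠ 0 → fB b b = 0 →
          OrthSub.Full (M.comap (isomsToGL Qf)) (τ a b) := by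
        intro a b ha haa hb hbb w hw
        obtain ⟨k, ⟨g, hg, rfl⟩, hgx⟩ := hfullT a b ha haa hb hbb w hw
        show isomsToGL Qf _ ∈ M
        suffices h : isomsToGL Qf (CfsgLib.Classical.siegel Qf (τ a b) w) = g by rw [h]; exact hg
        refine glLin.injective (LinearEquiv.ext fun x => ?_)
        rw [hlin, CfsgLib.Classical.siegel_apply Qf (hq a b haa) hw]
        refine Eq.trans ?_ (hgx x).symm
        show x + polar Qf (τ a b) x • w - (polar Qf w x + Qf w * polar Qf (τ a b) x) • τ a b =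
          x + polar Qf (τ a b) x • w - (polar Qf w x + polar Qf w w / 2 * polar Qf (τ a b) x) • τ a b
        rw [hself, mul_div_cancel_left₀ _ h2]
      have hne : polar Qf (τ v z) (τ v' z') ≠ 0 := by
        rw [hform, hvv', hzz', one_mul]; exact one_ne_zero
      have hv'0 : v' ≠ 0 := fun e0 => by rw [e0, map_zero] at hvv'; exact zero_ne_one hvv'
      have hz'0 : z' ≠ 0 := fun e0 => by rw [e0, map_zero] at hzz'; exact zero_ne_one hzz'
      have hle := OrthSub.commutator_le_of_pair hsep h5 (hfull v z hv0 hv hz0 hz)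
        (hfull v' z' hv'0 hv' hz'0 hz') (hq v z hv) (hq v' z' hv') hne
      rw [hKmap]
      rintro _ ⟨g, hg, rfl⟩
      exact hle hg
  -- a Siegel transformation which is not pure
  intro hEq
  obtain ⟨v, hv0, hv⟩ := hA.exists_iso_top hdA.ge
  obtain ⟨u, hu, hvu, huv⟩ := hA.partner hv0 hv
  obtain ⟨z, hz0, hz⟩ := hB.exists_iso_top (by omega)
  obtain ⟨z', hz', hzz', hz'z⟩ := hB.partner hz0 hz
  obtain ⟨r, hr, hrr⟩ := hA.exists_aniso_of_pos (hA.ndS_perp_pair hv hu hvu) (by
    have := CfsgLib.MaxSub.TForm.le_finrank_perpV (f := fA) ![v, u]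
    omega)
  obtain ⟨d, hd, hdd⟩ := hB.exists_aniso_of_pos (hB.ndS_perp_pair hz hz' hzz') (by
    have := CfsgLib.MaxSub.TForm.le_finrank_perpV (f := fB) ![z, z']
    omega)
  have hrv : fA r v = 0 := CfsgLib.MaxSub.TForm.mem_perpV.1 hr 0
  have hru : fA r u = 0 := CfsgLib.MaxSub.TForm.mem_perpV.1 hr 1
  have hdz : fB d z = 0 := CfsgLib.MaxSub.TForm.mem_perpV.1 hd 0
  have hdz' : fB d z' = 0 := CfsgLib.MaxSub.TForm.mem_perpV.1 hd 1
  have hu0 : u ≠ 0 := fun e0 => by rw [e0, map_zero] at hvu; exact zero_ne_one hvu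
  have hQ0 : Qf (τ v z) = 0 := by
    have h := hself (τ v z)
    rw [hform, hv, zero_mul] at h
    exact (mul_eq_zero.1 h.symm).resolve_left h2
  have hperp : polar Qf (τ v z) (τ r d) = 0 := by rw [hform, hA.symm r v, hrv, zero_mul]
  set g := isomsToGL Qf (CfsgLib.Classical.siegel Qf (τ v z) (τ r d))
  have hgK : g ∈ K := by
    rw [hKmap]; exact Subgroup.mem_map_of_mem _ (OrthSub.siegel_mem_commutator hsep h5 _ _)
  have hgS : g ∈ S := by
    have : g ∈ S ⊓ K := by rw [hEq]; exact hgK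
    exact this.1
  obtain ⟨X, Y, h⟩ : ∃ X Y, glLin g (τ u z') = τ X Y := by
    rcases (hSmem g).1 hgS with ⟨Mf, hf, hab⟩ | ⟨Mf, hf, hab⟩
    · exact ⟨_, _, hab u z'⟩
    · exact ⟨_, _, hab u z'⟩
  rw [hlin, CfsgLib.Classical.siegel_apply Qf hQ0 hperp, hform, hform, hvu, hzz', hru, zero_mul, zero_add,
    mul_one, mul_one, one_smul] at h
  have hz1 := congrArg (T.C z) h
  have hd1 := congrArg (T.C d) h
  simp only [T, map_add, map_sub, map_smul, hCt, LinearMap.flip_apply] at hz1 hd1
  rw [hz'z, hdz, hz, one_smul, zero_smul, add_zero, zero_smul, smul_zero, sub_zero] at hz1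
  rw [hB.symm d z', hdz', hB.symm d z, hdz, zero_smul, zero_add, zero_smul, smul_zero, sub_zero] at hd1
  have e1 := congrArg (fun a => fA a r) hz1
  have e2 := congrArg (fun a => fA a r) hd1
  simp only [map_smul, LinearMap.smul_apply, smul_eq_mul] at e1 e2
  rw [hA.symm r u, hru] at e1
  rcases mul_eq_zero.1 e1.symm with hc | hc
  · rw [hc, zero_smul] at hz1
    exact hu0 hz1
  · rw [hc, mul_zero] at e2
    exact (mul_ne_zero hdd hrr) e2

end CfsgLib.MaxSub.TWr
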