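import Cfsg.Agent.Lib.MaxSub.TFormOOBoot

/-!
`O3 ⊗ O3` with the exchange of the factors: the setting, and elementary facts.
-/

set_option autoImplicit false
set_option linter.unusedSectionVars false
set_option linter.unusedSimpArgs false
set_option linter.unusedVariables false
set_option linter.style.haveILetI false
set_option maxHeartbeats 1000000

namespace CfsgLib.MaxSub.TWr

open Module
open CfsgLib.MaxSub.TForm

variable {F A B V : Type*} [Field F] [AddCommGroup A] [Module F A] [AddCommGroup B] [Module F B]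
  [AddCommGroup V] [Module F V]

/-- the system with the factors exchanged -/
def flipSys (T : Sys F A B V (RingHom.id F)) : Sys F B A V (RingHom.id F) :=
  { tau := T.tau.flip, fA := T.fB, fB := T.fA, form := T.form, C := T.C', C' := T.C }

/-- the axial involution at `a`: `1` on `a`, `-1` on its orthogonal -/
noncomputable def refl {M : Type*} [AddCommGroup M] [Module F M] (f : M →ₗ[F] M →ₗ[F] F) (a : M) :
    M →ₗ[F] M :=
  ((2 / f a a) • f a).smulRight a - LinearMap.id

theorem refl_apply {M : Type*} [AddCommGroup M] [Module F M] (f : M →ₗ[F] M →ₗ[F] F) (a x : M) :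
    refl f a x = (2 / f a a * f a x) • a - x := rfl

theorem refl_self {M : Type*} [AddCommGroup M] [Module F M] {f : M →ₗ[F] M →ₗ[F] F} {a : M}
    (ha : f a a ≠ 0) : refl f a a = a := by
  rw [refl_apply, div_mul_cancel₀ _ ha, two_smul, add_sub_cancel_right]

theorem refl_perp {M : Type*} [AddCommGroup M] [Module F M] {f : M →ₗ[F] M →ₗ[F] F} {a x : M}
    (hx : f a x = 0) : refl f a x = -x := by
  rw [refl_apply, hx, mul_zero, zero_smul, zero_sub]

/-- the axial involution at `a` of the first factor lies in `H` -/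
def Ax (T : Sys F A B V (RingHom.id F)) (H : Subgroup (V ≃ₗ[F] V)) (a : A) : Prop :=
  ∃ k ∈ H, ∀ x b, k (T.tau x b) = T.tau (refl T.fA a x) b

/-- the setting for `O3 ⊗ O3` with the exchange of the factors -/
structure WData (T : Sys F A B V (RingHom.id F)) (H : Subgroup (V ≃ₗ[F] V)) : Prop where
  symA : SymNd T.fA
  symB : SymNd T.fB
  form_tau : ∀ a b a' b', T.form (T.tau a b) (T.tau a' b') = T.fA a a' * T.fB b b'
  C_tau : ∀ w a b, T.C w (T.tau a b) = T.fB b w • a
  C'_tau : ∀ x a b, T.C' x (T.tau a b) = T.fA a x • b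
  span : Submodule.span F (Set.range fun p : A × B => T.tau p.1 p.2) = ⊤
  isom : ∀ g ∈ H, ∀ x y, T.form (g x) (g y) = T.form x y
  genA : ∀ g ∈ eichGen T.fA, ∃ k ∈ H, ∀ a b, k (T.tau a b) = T.tau (g a) b
  genB : ∀ g ∈ eichGen T.fB, ∃ k ∈ H, ∀ a b, k (T.tau a b) = T.tau a (g b)
  dimA : finrank F A = 3
  dimB : finrank F B = 3
  big : ∃ R : F, R ≠ 0 ∧ R * R ≠ 1
  axA : ∀ a, T.fA a a ≠ 0 → ∃ a', T.fA a a' = 0 ∧ T.fA a' a' ≠ 0 ∧ Ax T H a'
  axB : ∀ b, T.fB b b ≠ 0 → ∃ b', T.fB b b' = 0 ∧ T.fB b' b' ≠ 0 ∧ Ax (flipSys T) H b'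

namespace WData

variable {T : Sys F A B V (RingHom.id F)} {H : Subgroup (V ≃ₗ[F] V)}

theorem dimA_le (D : WData T H) : 3 ≤ finrank F A := le_of_eq D.dimA.symm

theorem ap_inv (g : V ≃ₗ[F] V) (x : V) : g (g⁻¹ x) = x := by
  rw [LinearEquiv.coe_inv, LinearEquiv.apply_symm_apply]

theorem inv_ap (g : V ≃ₗ[F] V) (x : V) : g⁻¹ (g x) = x := by
  rw [LinearEquiv.coe_inv, LinearEquiv.symm_apply_apply]

theorem induction (D : WData T H) {p : V → Prop} (h0 : p 0) (hadd : ∀ x y, p x → p y → p (x + y))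
    (htau : ∀ a b, p (T.tau a b)) (x : V) : p x := by
  have hx : x ∈ Submodule.span F (Set.range fun q : A × B => T.tau q.1 q.2) := by
    rw [D.span]; trivial
  suffices ∀ c : F, p (c • x) by simpa using this 1
  induction hx using Submodule.span_induction with
  | mem y hy =>
      obtain ⟨q, rfl⟩ := hy
      intro c
      rw [← LinearMap.smul_apply, ← map_smul]
      exact htau _ _
  | zero => intro c; rw [smul_zero]; exact h0
  | add a b _ _ ha hb => intro c; rw [smul_add]; exact hadd _ _ (ha c) (hb c)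
  | smul k a _ ha => intro c; rw [smul_smul]; exact ha _

theorem ext_tau (D : WData T H) {W : Type*} [AddCommGroup W] [Module F W] {f g : V →ₗ[F] W}
    (h : ∀ a b, f (T.tau a b) = g (T.tau a b)) : f = g :=
  LinearMap.ext (D.induction (p := fun x => f x = g x) (by simp) (fun x y hx hy => by simp [hx, hy]) h)

theorem form_C (D : WData T H) (y : V) (a : A) (w : B) :
    T.form y (T.tau a w) = T.fA (T.C w y) a :=
  LinearMap.congr_fun (D.ext_tau (f := T.form.flip (T.tau a w)) (g := (T.fA.flip a) ∘ₗ T.C w)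
    fun a' b' => by simp [D.form_tau, D.C_tau, mul_comm]) y

theorem formV_symm (D : WData T H) (x y : V) : T.form y x = T.form x y := by
  refine D.induction (p := fun x => T.form y x = T.form x y) (by simp)
    (fun a b ha hb => by simp only [map_add, LinearMap.add_apply, ha, hb]) (fun a b => ?_) x
  refine D.induction (p := fun y => T.form y (T.tau a b) = T.form (T.tau a b) y) (by simp)
    (fun u u' hu hu' => by simp only [map_add, LinearMap.add_apply, hu, hu']) (fun a' b' => ?_) y
  rw [D.form_tau, D.form_tau, D.symA.symm a a', D.symB.symm b b']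

theorem C_eq_zero (D : WData T H) {w : B} {y : V} (h : ∀ a, T.form y (T.tau a w) = 0) : T.C w y = 0 :=
  D.symA.nondeg _ fun a => by rw [← D.form_C, h]

theorem C_eq_of_form (D : WData T H) {w : B} {y y' : V}
    (h : ∀ a, T.form y (T.tau a w) = T.form y' (T.tau a w)) : T.C w y = T.C w y' := by
  rw [← sub_eq_zero, ← map_sub]
  exact D.C_eq_zero fun a => by rw [map_sub, LinearMap.sub_apply, h, sub_self]

theorem C_add (D : WData T H) (w w' : B) : T.C (w + w') = T.C w + T.C w' :=
  D.ext_tau fun a b => by simp [D.C_tau, add_smul]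

theorem C_smul (D : WData T H) (k : F) (w : B) : T.C (k • w) = k • T.C w :=
  D.ext_tau fun a b => by simp [D.C_tau, smul_smul]

theorem C_sub (D : WData T H) (w w' : B) : T.C (w - w') = T.C w - T.C w' :=
  D.ext_tau fun a b => by simp [D.C_tau, sub_smul]

variable [Finite F] [FiniteDimensional F A] [FiniteDimensional F B]

theorem C_nondeg (D : WData T H) {y : V} (h : ∀ w, T.C w y = 0) : ∀ a b, T.form y (T.tau a b) = 0 :=
  fun a b => by rw [D.form_C, h, map_zero, LinearMap.zero_apply]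

theorem nontrivA (D : WData T H) : Nontrivial A :=
  Module.nontrivial_of_finrank_pos (R := F) (by have := D.dimA; omega)

theorem tau_left_inj (D : WData T H) {z : B} (hz : z ≠ 0) {a a' : A} (h : T.tau a z = T.tau a' z) :
    a = a' := by
  obtain ⟨w, hw⟩ : ∃ w, T.fB z w ≠ 0 := by
    by_contra h
    simp only [not_exists, not_not] at h
    exact hz (D.symB.nondeg z h)
  have h1 := congrArg (T.C w) h
  rw [D.C_tau, D.C_tau] at h1
  exact smul_right_injective A hw h1

theorem tau_right_inj (D : WData T H) {a : A} (ha : a ≠ 0) {b b' : B} (h : T.tau a b = T.tau a b') :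
    b = b' := by
  obtain ⟨x, hx⟩ : ∃ x, T.fA a x ≠ 0 := by
    by_contra h
    simp only [not_exists, not_not] at h
    exact ha (D.symA.nondeg a h)
  have h1 := congrArg (T.C' x) h
  rw [D.C'_tau, D.C'_tau] at h1
  exact smul_right_injective B hx h1

/-- vectors killed by all contractions vanish -/
theorem eq_zero_of_C (D : WData T H) {y : V} (h : ∀ w, T.C w y = 0) : y = 0 := by
  classical
  let e := Module.finBasis F B
  choose d hd using fun i => exists_repr (σ := RingHom.id F) (fun _ => rfl) T.fB D.symB.nondeg (e.coord i)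
  have key : y = ∑ i, T.tau (T.C (d i) y) (e i) :=
    D.induction (p := fun y => y = ∑ i, T.tau (T.C (d i) y) (e i)) (by simp)
      (fun x x' hx hx' => by
        conv_lhs => rw [hx, hx']
        simp [Finset.sum_add_distrib])
      (fun a b => by
        simp only [D.C_tau, hd, map_smul, LinearMap.smul_apply, Basis.coord_apply]
        simp only [← map_smul, ← map_sum, e.sum_repr]) y
  rw [key]
  simp [h]

/-- the contractions orthogonal to `z` determine a vector modulo the pencil -/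
theorem mem_pen (D : WData T H) {z e : B} (hze : T.fB z e = 1) {x : V}
    (h : ∀ w, T.fB w z = 0 → T.C w x = 0) : x = T.tau (T.C e x) z := by
  refine sub_eq_zero.1 (D.eq_zero_of_C fun w => ?_)
  have h1 := h (w - T.fB w z • e) (by simp [D.symB.symm z e, hze])
  rw [D.C_sub, D.C_smul, LinearMap.sub_apply, LinearMap.smul_apply, sub_eq_zero] at h1
  rw [map_sub, D.C_tau, h1, D.symB.symm w z, sub_self]

/-- induction on the orthogonal of a pencil -/
theorem perp_induction (D : WData T H) {z e : B} (hze : T.fB z e = 1) {p : V → Prop} (h0 : p 0)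
    (hadd : ∀ x y, p x → p y → p (x + y)) (htau : ∀ a d, T.fB d z = 0 → p (T.tau a d)) {x : V}
    (hx : T.C z x = 0) : p x := by
  have key : p (x - T.tau (T.C z x) e) := by
    refine D.induction (p := fun x => p (x - T.tau (T.C z x) e)) (by simpa using h0)
      (fun y y' hy hy' => ?_) (fun a b => ?_) x
    · have e1 : y + y' - T.tau (T.C z (y + y')) e = (y - T.tau (T.C z y) e) + (y' - T.tau (T.C z y') e) := by
        simp only [map_add, LinearMap.add_apply]; abel
      rw [e1]; exact hadd _ _ hy hy'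
    · rw [D.C_tau, map_smul, LinearMap.smul_apply, ← map_smul, ← map_sub]
      exact htau _ _ (by simp [D.symB.symm z e, hze])
  simpa [hx] using key

/-- pure elements of the first factor -/
theorem pureA (D : WData T H) {g : A ≃ₗ[F] A} (hg : g ∈ egrp T.fA) :
    ∃ k ∈ H, ∀ a b, k (T.tau a b) = T.tau (g a) b := by
  induction hg using Subgroup.closure_induction with
  | mem g hg => exact D.genA g hg
  | one => exact ⟨1, one_mem _, fun a b => rfl⟩
  | mul g h _ _ hg hh =>
      obtain ⟨k, hk, hka⟩ := hg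
      obtain ⟨l, hl, hla⟩ := hh
      exact ⟨k * l, mul_mem hk hl, fun a b => by rw [LinearEquiv.mul_apply, hla, hka]; rfl⟩
  | inv g _ hg =>
      obtain ⟨k, hk, hka⟩ := hg
      refine ⟨k⁻¹, inv_mem hk, fun a b => k.injective ?_⟩
      rw [ap_inv, hka, LinearEquiv.coe_inv, LinearEquiv.apply_symm_apply]

/-- pure elements of the second factor -/
theorem pureB (D : WData T H) {g : B ≃ₗ[F] B} (hg : g ∈ egrp T.fB) :
    ∃ k ∈ H, ∀ a b, k (T.tau a b) = T.tau a (g b) := by
  induction hg using Subgroup.closure_induction with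
  | mem g hg => exact D.genB g hg
  | one => exact ⟨1, one_mem _, fun a b => rfl⟩
  | mul g h _ _ hg hh =>
      obtain ⟨k, hk, hka⟩ := hg
      obtain ⟨l, hl, hla⟩ := hh
      exact ⟨k * l, mul_mem hk hl, fun a b => by rw [LinearEquiv.mul_apply, hla, hka]; rfl⟩
  | inv g _ hg =>
      obtain ⟨k, hk, hka⟩ := hg
      refine ⟨k⁻¹, inv_mem hk, fun a b => k.injective ?_⟩
      rw [ap_inv, hka, LinearEquiv.coe_inv, LinearEquiv.apply_symm_apply]

theorem C_pureA (D : WData T H) {g : A ≃ₗ[F] A} {k : V ≃ₗ[F] V}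
    (hk : ∀ a b, k (T.tau a b) = T.tau (g a) b) (w : B) (x : V) : T.C w (k x) = g (T.C w x) :=
  LinearMap.congr_fun (D.ext_tau (f := T.C w ∘ₗ (k : V →ₗ[F] V)) (g := g.toLinearMap ∘ₗ T.C w)
    fun a b => by simp [hk, D.C_tau]) x

theorem C_pureA_inv (D : WData T H) {g : A ≃ₗ[F] A} {k : V ≃ₗ[F] V}
    (hk : ∀ a b, k (T.tau a b) = T.tau (g a) b) (w : B) (x : V) :
    T.C w (k⁻¹ x) = g.symm (T.C w x) := by
  apply g.injective
  rw [LinearEquiv.apply_symm_apply, ← D.C_pureA hk, ap_inv]

theorem C_pureB_inv (D : WData T H) {g : B ≃ₗ[F] B} (hg : ∀ b b', T.fB (g b) (g b') = T.fB b b')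
    {k : V ≃ₗ[F] V} (hk : ∀ a b, k (T.tau a b) = T.tau a (g b)) (w : B) (x : V) :
    T.C w (k⁻¹ x) = T.C (g w) x := by
  obtain ⟨y, rfl⟩ := k.surjective x
  rw [inv_ap]
  exact LinearMap.congr_fun (D.ext_tau (f := T.C w) (g := T.C (g w) ∘ₗ (k : V →ₗ[F] V))
    fun a b => by simp [hk, D.C_tau, hg]) y

/-- an element fixing the orthogonal of a singular pencil is a Siegel map of the pencil -/
theorem line_form (D : WData T H) {z : B} (hz0 : z ≠ 0) (hz : T.fB z z = 0) {g : V ≃ₗ[F] V} (hg : g ∈ H)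
    (hfix : ∀ x, T.C z x = 0 → g x = x) : ∃ X, ∀ x, g x = fr T z X x := by
  obtain ⟨e, -, hze, hez⟩ := D.symB.partner hz0 hz
  let X : A →ₗ[F] A := T.C e ∘ₗ ((g : V →ₗ[F] V) - LinearMap.id) ∘ₗ T.tau.flip e
  have hpen : ∀ y, g y - y = T.tau (T.C e (g y - y)) z := fun y => D.mem_pen hze fun w hw => by
    rw [map_sub, sub_eq_zero]
    refine D.C_eq_of_form fun a => ?_
    conv_lhs => rw [← hfix (T.tau a w) (by rw [D.C_tau, hw, zero_smul]), D.isom g hg]
  refine ⟨X, fun x => ?_⟩
  have h1 : g (x - T.tau (T.C z x) e) = x - T.tau (T.C z x) e :=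
    hfix _ (by rw [map_sub, D.C_tau, hez, one_smul, sub_self])
  have h2 : g x - x = g (T.tau (T.C z x) e) - T.tau (T.C z x) e := by
    rw [map_sub] at h1; rw [sub_eq_sub_iff_sub_eq_sub, h1]
  show g x = x + T.tau (T.C e (g (T.tau (T.C z x) e) - T.tau (T.C z x) e)) z
  rw [← hpen, ← h2, add_sub_cancel]

/-- the Siegel maps at `z` -/
def frames (D : WData T H) (z : B) (hz : T.fB z z = 0) : AddSubgroup (Module.End F A) where
  carrier := {X | InH H (fr T z X)}
  zero_mem' := ⟨1, one_mem _, fun x => by simp [fr]⟩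
  add_mem' {X Y} hX hY := (InH.comp hX hY).congr fun x => by
    simp [fr, D.C_tau, hz, add_assoc, add_comm (T.tau (X (T.C z x)) z)]
  neg_mem' {X} hX := by
    obtain ⟨g, hg, hgx⟩ := hX
    refine ⟨g⁻¹, inv_mem hg, fun x => g.injective ?_⟩
    rw [ap_inv, hgx]
    simp [fr, D.C_tau, hz]

theorem frames_skew (D : WData T H) {z : B} (hz0 : z ≠ 0) (hz : T.fB z z = 0) {X : Module.End F A}
    (hX : X ∈ D.frames z hz) (a a' : A) : T.fA (X a) a' = -T.fA a (X a') := by
  obtain ⟨e, hee, hze, hez⟩ := D.symB.partner hz0 hz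
  obtain ⟨g, hg, hgx⟩ := hX
  have h := D.isom g hg (T.tau a e) (T.tau a' e)
  rw [hgx, hgx] at h
  simp only [fr, map_add, LinearMap.add_apply, D.form_tau, D.C_tau, hez, one_smul, hz, hze] at h
  linear_combination h

theorem frames_conj (D : WData T H) {z : B} {hz : T.fB z z = 0} {g : A ≃ₗ[F] A} (hg : g ∈ egrp T.fA)
    {X : Module.End F A} (hX : X ∈ D.frames z hz) :
    g.toLinearMap ∘ₗ X ∘ₗ g.symm.toLinearMap ∈ D.frames z hz := by
  obtain ⟨k, hk, hkab⟩ := D.pureA hg
  obtain ⟨t, ht, htx⟩ := hX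
  refine ⟨k * t * k⁻¹, mul_mem (mul_mem hk ht) (inv_mem hk), fun x => ?_⟩
  show k (t (k⁻¹ x)) = _
  rw [htx, fr, map_add, ap_inv, hkab, D.C_pureA_inv hkab]
  rfl

/-- the Eichler element `1 ⊗ E` -/
theorem eichB (D : WData T H) {v r : B} (hv : T.fB v v = 0) (hr : T.fB r v = 0) :
    ∃ k ∈ H, (∀ a b, k (T.tau a b) = T.tau a (eich T.fB v r b)) ∧
      ∀ x, k x = x + T.tau (T.C v x) r - T.tau (T.C r x + (T.fB r r / 2) • T.C v x) v := by
  obtain ⟨g, hg, hga, -⟩ := D.symB.exists_eich hv hr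
  obtain ⟨k, hk, hkab⟩ := D.pureB hg
  refine ⟨k, hk, fun a b => by rw [hkab, hga], fun x => ?_⟩
  refine LinearMap.congr_fun (D.ext_tau (f := (k : V →ₗ[F] V))
    (g := LinearMap.id + T.tau.flip r ∘ₗ T.C v - T.tau.flip v ∘ₗ (T.C r + (T.fB r r / 2) • T.C v))
    fun a b => ?_) x
  show k (T.tau a b) = T.tau a b + T.tau (T.C v (T.tau a b)) r -
    T.tau (T.C r (T.tau a b) + (T.fB r r / 2) • T.C v (T.tau a b)) v
  rw [hkab, hga, eich_apply, D.C_tau, D.C_tau]
  simp only [map_add, map_sub, map_smul, LinearMap.add_apply, LinearMap.smul_apply]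
  module

theorem flip (D : WData T H) : WData (flipSys T) H where
  symA := D.symB
  symB := D.symA
  form_tau a b a' b' := (D.form_tau b a b' a').trans (mul_comm _ _)
  C_tau w a b := D.C'_tau w b a
  C'_tau x a b := D.C_tau x b a
  span := by
    rw [← D.span]
    congr 1
    ext x
    exact ⟨fun ⟨p, hp⟩ => ⟨(p.2, p.1), hp⟩, fun ⟨p, hp⟩ => ⟨(p.2, p.1), hp⟩⟩
  isom := D.isom
  genA g hg := by
    obtain ⟨k, hk, h⟩ := D.genB g hg
    exact ⟨k, hk, fun b a => h a b⟩
  genB g hg := by
    obtain ⟨k, hk, h⟩ := D.genA g hg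
    exact ⟨k, hk, fun b a => h a b⟩
  dimA := D.dimB
  dimB := D.dimA
  big := D.big
  axA := D.axB
  axB := D.axA

theorem ext_lin (D : WData T H) {g g' : V ≃ₗ[F] V} (h : ∀ a b, g (T.tau a b) = g' (T.tau a b)) : g = g' :=
  LinearEquiv.toLinearMap_injective (D.ext_tau (f := (g : V →ₗ[F] V)) (g := (g' : V →ₗ[F] V)) h)

end WData

end CfsgLib.MaxSub.TWr
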