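import Cfsg.Agent.Lib.MaxSub.TWr.Basic

/-!
`O3 ⊗ O3` with the exchange of the factors: a Siegel map at a singular pencil gives all Siegel
transformations centred at the doubly singular pure vectors.
-/

set_option autoImplicit false
set_option linter.unusedSectionVars false
set_option linter.unusedSimpArgs false
set_option linter.unusedVariables false
set_option linter.style.haveILetI false
set_option maxHeartbeats 1000000

namespace CfsgLib.MaxSub.TWr

open Module
open CfsgLib.MaxSub.TForm

variable {F A B V : Type*} [Field F] [AddCommGroup A] [Module F A] [AddCommGroup B] [Module F B]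
  [AddCommGroup V] [Module F V]

namespace WData

variable {T : Sys F A B V (RingHom.id F)} {H : Subgroup (V ≃ₗ[F] V)}
variable [Finite F] [FiniteDimensional F A] [FiniteDimensional F B] [FiniteDimensional F V]

theorem fB_C' (D : WData T H) (x : A) (w : B) (y : V) : T.fB (T.C' x y) w = T.fA (T.C w y) x :=
  LinearMap.congr_fun (D.ext_tau (f := (T.fB.flip w) ∘ₗ T.C' x) (g := (T.fA.flip x) ∘ₗ T.C w)
    fun a b => by simp [D.C'_tau, D.C_tau, mul_comm]) y

theorem exists_dualA (D : WData T H) {a : A} (ha : a ≠ 0) : ∃ x, T.fA a x = 1 := by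
  obtain ⟨y, hy⟩ : ∃ y, T.fA a y ≠ 0 := by
    by_contra h
    simp only [not_exists, not_not] at h
    exact ha (D.symA.nondeg a h)
  exact ⟨(T.fA a y)⁻¹ • y, by rw [map_smul, smul_eq_mul, inv_mul_cancel₀ hy]⟩

theorem wedge_conj (D : WData T H) {g : A ≃ₗ[F] A} (hg : g ∈ egrp T.fA) (p s : A) :
    g.toLinearMap ∘ₗ wedge T.fA p s ∘ₗ g.symm.toLinearMap = wedge T.fA (g p) (g s) := by
  refine LinearMap.ext fun a => ?_
  obtain ⟨a, rfl⟩ := g.surjective a
  simp [wedge_apply, D.symA.egrp_isom hg]

theorem fr_wedge (D : WData T H) (z : B) (p s : A) (x : V) :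
    fr T z (wedge T.fA p s) x = rtMap T (T.tau p z) (T.tau s z) x := by
  simp only [fr, rtMap, wedge_apply, D.form_C, map_sub, map_smul, LinearMap.sub_apply, LinearMap.smul_apply]
  abel

/-- a Siegel map gives one of rank two at a singular vector of `A` -/
theorem wedge_seed (D : WData T H) (hno : ¬ NoFrame T H) :
    ∃ z, ∃ hz : T.fB z z = 0, z ≠ 0 ∧ ∃ v u s, v ≠ 0 ∧ T.fA v v = 0 ∧ T.fA u u = 0 ∧ T.fA v u = 1 ∧
      s ≠ 0 ∧ T.fA s v = 0 ∧ T.fA s u = 0 ∧ wedge T.fA v s ∈ D.frames z hz := by
  simp only [NoFrame, not_forall] at hno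
  obtain ⟨z, hz0, hz, X, hX, hX0⟩ := hno
  obtain ⟨v, hv0, hv⟩ := D.symA.exists_iso_top D.dimA_le
  obtain ⟨u, hu, hvu, huv⟩ := D.symA.partner hv0 hv
  obtain ⟨Y, hY, hY0, hfix⟩ := D.symA.exists_fixed_conj (u := u) hv (D.frames z hz) ⊥
    (fun g hg Y hY => D.frames_conj hg hY)
    (fun g hg Y hY => by
      rw [AddSubgroup.mem_bot] at hY
      rw [hY, AddSubgroup.mem_bot]
      ext a; simp) (X₀ := X) hX (by rwa [AddSubgroup.mem_bot])
  obtain ⟨r₀, hrv, hru, hYa⟩ := D.symA.fixed_skew D.dimA_le hv hu hvu huv (D.frames_skew hz0 hz hY)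
    fun r hr hru a => by
      obtain ⟨Z, hZ, hZa⟩ := hfix r hr hru
      rw [AddSubgroup.mem_bot] at hZ
      have := hZa a
      rwa [hZ, LinearMap.zero_apply, sub_eq_zero] at this
  have hYw : Y = wedge T.fA v r₀ := LinearMap.ext fun a => by rw [hYa, wedge_apply]
  refine ⟨z, hz, hz0, v, u, r₀, hv0, hv, hu, hvu, fun e => hY0 ?_, hrv, hru, hYw ▸ hY⟩
  rw [AddSubgroup.mem_bot, hYw, e]
  ext a; simp [wedge_apply]

/-- the rank two maps at one singular vector -/
theorem wedge_at (D : WData T H) {z : B} {hz : T.fB z z = 0} {v u s : A} (hv0 : v ≠ 0)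
    (hv : T.fA v v = 0) (hu : T.fA u u = 0) (hvu : T.fA v u = 1) (hs0 : s ≠ 0) (hsv : T.fA s v = 0)
    (hsu : T.fA s u = 0) (hs : wedge T.fA v s ∈ D.frames z hz) :
    ∀ s', T.fA s' v = 0 → wedge T.fA v s' ∈ D.frames z hz := by
  have h2 := D.symA.two
  have huv : T.fA u v = 1 := by rw [D.symA.symm, hvu]
  have hnd := D.symA.ndS_perp_pair hv hu hvu
  have hm := D.symA.finrank_perp_pair hv hu hvu
  have hA := D.dimA
  set A₀ := perpV T.fA ![v, u] with hA₀
  have hmem : ∀ {x : A}, x ∈ A₀ → T.fA x v = 0 ∧ T.fA x u = 0 := fun h => ⟨mem_perpV.1 h 0, mem_perpV.1 h 1⟩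
  have hsA : s ∈ A₀ := mem_perpV.2 fun i => by fin_cases i; exacts [hsv, hsu]
  have hadd : ∀ p q : A, wedge T.fA v p ∈ D.frames z hz → wedge T.fA v q ∈ D.frames z hz →
      wedge T.fA v (p + q) ∈ D.frames z hz := fun p q hp hq => by
    have e : wedge T.fA v (p + q) = wedge T.fA v p + wedge T.fA v q := LinearMap.ext fun a => by
      simp only [wedge_apply, LinearMap.add_apply, map_add, add_smul, smul_add]; abel
    rw [e]; exact add_mem hp hq
  have hneg : ∀ p : A, wedge T.fA v p ∈ D.frames z hz → wedge T.fA v (-p) ∈ D.frames z hz := fun p hp => by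
    have e : wedge T.fA v (-p) = -wedge T.fA v p := LinearMap.ext fun a => by
      simp [wedge_apply]
      abel
    rw [e]; exact neg_mem hp
  -- a torus element moves a member
  have htor : ∀ p ∈ A₀, wedge T.fA v p ∈ D.frames z hz → ∀ r ∈ A₀, T.fA r r ≠ 0 → ∀ r' ∈ A₀,
      T.fA r' r' ≠ 0 → wedge T.fA v ((T.fA r r / T.fA r' r') •
        ((p - (2 * T.fA p r / T.fA r r) • r) -
          (2 * T.fA (p - (2 * T.fA p r / T.fA r r) • r) r' / T.fA r' r') • r')) ∈ D.frames z hz := by
    intro p hp hpf r hr hrr r' hr' hrr'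
    obtain ⟨g, hg, hgv, hgs⟩ := D.symA.exists_torus hv hu hvu (hmem hr).1 (hmem hr).2 hrr (hmem hr').1
      (hmem hr').2 hrr'
    have h := D.frames_conj hg hpf
    rw [D.wedge_conj hg, hgv, hgs p (hmem hp).1 (hmem hp).2] at h
    convert h using 1
    refine LinearMap.ext fun a => ?_
    simp only [wedge_apply, map_smul, smul_eq_mul]
    module
  obtain ⟨r₀, hr₀, hr₀r⟩ := D.symA.exists_aniso hnd hsA hs0
  have hsq : ∀ p ∈ A₀, wedge T.fA v p ∈ D.frames z hz → ∀ l : F, wedge T.fA v (l • p) ∈ D.frames z hz := by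
    intro p hp hpf l
    have hone : ∀ c : F, wedge T.fA v ((c * c) • p) ∈ D.frames z hz := by
      intro c
      rcases eq_or_ne c 0 with rfl | hc
      · have e : wedge T.fA v ((0 * 0 : F) • p) = 0 := LinearMap.ext fun a => by simp [wedge_apply]
        rw [e]; exact zero_mem _
      have h := htor p hp hpf (c • r₀) (A₀.smul_mem c hr₀) (by simp [hc, hr₀r]) r₀ hr₀ hr₀r
      convert h using 2
      simp only [map_sub, map_smul, LinearMap.sub_apply, LinearMap.smul_apply, smul_eq_mul]
      match_scalars <;> field_simp <;> ring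
    have h := hadd _ _ (hone ((l + 1) / 2)) (hneg _ (hone ((l - 1) / 2)))
    convert h using 2
    match_scalars
    field_simp
    ring
  let W : Submodule F A :=
    { carrier := {p | p ∈ A₀ ∧ wedge T.fA v p ∈ D.frames z hz}
      add_mem' := fun {p q} hp hq => ⟨A₀.add_mem hp.1 hq.1, hadd p q hp.2 hq.2⟩
      zero_mem' := ⟨A₀.zero_mem, by
        have e : wedge T.fA v (0 : A) = 0 := LinearMap.ext fun a => by simp [wedge_apply]
        rw [e]; exact zero_mem _⟩
      smul_mem' := fun l p hp => ⟨A₀.smul_mem l hp.1, hsq p hp.1 hp.2 l⟩ }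
  have hsW : s ∈ W := ⟨hsA, hs⟩
  have hall : A₀ ≤ W := by
    have hsub : Submodule.span F ({s} : Set A) ≤ A₀ := (Submodule.span_singleton_le_iff_mem _ _).2 hsA
    have e := Submodule.eq_of_le_of_finrank_le hsub (by rw [finrank_span_singleton hs0]; omega)
    rw [← e]
    exact (Submodule.span_singleton_le_iff_mem _ _).2 hsW
  intro s' hs'
  have h : s' - T.fA s' u • v ∈ A₀ := mem_perpV.2 fun i => by fin_cases i <;> simp [hs', hv, hvu]
  have e : wedge T.fA v s' = wedge T.fA v (s' - T.fA s' u • v) := LinearMap.ext fun a => by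
    simp only [wedge_apply, map_sub, map_smul, smul_eq_mul]; module
  rw [e]
  exact (hall h).2

/-- all rank two maps at one pencil -/
theorem wedge_pencil (D : WData T H) {z : B} {hz : T.fB z z = 0} {v : A} (hv0 : v ≠ 0)
    (hv : T.fA v v = 0) (hall : ∀ s', T.fA s' v = 0 → wedge T.fA v s' ∈ D.frames z hz) (p s : A) :
    wedge T.fA p s ∈ D.frames z hz := by
  have h2 := D.symA.two
  -- at every singular vector
  have hsing : ∀ p, T.fA p p = 0 → ∀ s, T.fA s p = 0 → wedge T.fA p s ∈ D.frames z hz := by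
    intro p hp s hs
    rcases eq_or_ne p 0 with rfl | hp0
    · have e : wedge T.fA (0 : A) s = 0 := LinearMap.ext fun a => by simp [wedge_apply]
      rw [e]; exact zero_mem _
    obtain ⟨g, hg, c, hc, hgv⟩ := D.symA.exists_move D.dimA_le hv0 hv hp0 hp
    have hs' : T.fA (g.symm (c⁻¹ • s)) v = 0 := by
      rw [← D.symA.egrp_isom hg, LinearEquiv.apply_symm_apply, hgv]
      simp [hs]
    have h := D.frames_conj hg (hall _ hs')
    rw [D.wedge_conj hg, LinearEquiv.apply_symm_apply, hgv] at h
    convert h using 1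
    refine LinearMap.ext fun a => ?_
    simp only [wedge_apply, map_smul, smul_eq_mul]
    match_scalars <;> field_simp
  have hsing' : ∀ p, T.fA p p = 0 → ∀ s, wedge T.fA p s ∈ D.frames z hz := by
    intro p hp s
    rcases eq_or_ne p 0 with rfl | hp0
    · have e : wedge T.fA (0 : A) s = 0 := LinearMap.ext fun a => by simp [wedge_apply]
      rw [e]; exact zero_mem _
    obtain ⟨u, hu, hpu, hup⟩ := D.symA.partner hp0 hp
    have := D.symA.finrank_perp_pair hp hu hpu
    have hA := D.dimA
    obtain ⟨x, hx, hxx⟩ := D.symA.exists_aniso_of_pos (D.symA.ndS_perp_pair hp hu hpu) (by omega)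
    have hxp : T.fA x p = 0 := mem_perpV.1 hx 0
    have hxu : T.fA x u = 0 := mem_perpV.1 hx 1
    set q := T.fA x x with hqdef
    set v' := p + x - (q / 2) • u with hv'
    set k := T.fA s p with hk
    set s₁ := (k / q) • (x - q • u) with hs₁
    have hv'v' : T.fA v' v' = 0 := by
      simp only [hv', map_add, map_sub, map_smul, LinearMap.add_apply, LinearMap.sub_apply,
        LinearMap.smul_apply, smul_eq_mul, hp, hu, hpu, hup, hxp, hxu, D.symA.symm x p, D.symA.symm x u,
        ← hqdef]
      field_simp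
      ring
    have hs₁v : T.fA s₁ v' = 0 := by
      simp only [hs₁, hv', map_add, map_sub, map_smul, LinearMap.add_apply, LinearMap.sub_apply,
        LinearMap.smul_apply, smul_eq_mul, hu, hup, hxp, hxu, D.symA.symm x u, ← hqdef]
      ring
    have hA1 := hsing v' hv'v' s₁ hs₁v
    have hA2 := hsing p hp ((k / q) • x + (s - k • u)) (by simp [hxp, hup, hk])
    have hA3 := hsing u hu ((k / 2) • x) (by simp [hxu])
    have e : wedge T.fA p s = wedge T.fA p ((k / q) • x + (s - k • u)) + wedge T.fA u ((k / 2) • x) -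
        wedge T.fA v' s₁ := LinearMap.ext fun a => by
      simp only [wedge_apply, hv', hs₁, LinearMap.sub_apply, LinearMap.add_apply, map_add, map_sub,
        map_smul, smul_eq_mul]
      match_scalars <;> field_simp <;> ring
    rw [e]
    exact sub_mem (add_mem hA2 hA3) hA1
  let P : Submodule F A :=
    { carrier := {p | ∀ s, wedge T.fA p s ∈ D.frames z hz}
      add_mem' := fun {p q} hp hq s => by
        have e : wedge T.fA (p + q) s = wedge T.fA p s + wedge T.fA q s := LinearMap.ext fun a => by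
          simp only [wedge_apply, LinearMap.add_apply, map_add, add_smul, smul_add]; abel
        rw [e]; exact add_mem (hp s) (hq s)
      zero_mem' := fun s => by
        have e : wedge T.fA (0 : A) s = 0 := LinearMap.ext fun a => by simp [wedge_apply]
        rw [e]; exact zero_mem _
      smul_mem' := fun c p hp s => by
        have e : wedge T.fA (c • p) s = wedge T.fA p (c • s) := LinearMap.ext fun a => by
          simp [wedge_apply, smul_smul, mul_comm]
        rw [e]; exact hp _ }
  have hle : Submodule.span F {x : A | x ∈ (⊤ : Submodule F A) ∧ T.fA x x = 0} ≤ P :=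
    Submodule.span_le.2 fun x hx => hsing' x hx.2
  exact hle (D.symA.iso_span D.symA.ndS_top (d := v) Submodule.mem_top hv0 hv Submodule.mem_top) s

/-- a Siegel map gives all rank two ones at all singular pencils -/
theorem wedge_all (D : WData T H) (hno : ¬ NoFrame T H) {z : B} (hz : T.fB z z = 0) (p s : A) :
    wedge T.fA p s ∈ D.frames z hz := by
  obtain ⟨z₀, hz₀, hz₀0, v, u, s₀, hv0, hv, hu, hvu, hs0, hsv, hsu, hmem⟩ := D.wedge_seed hno
  have h0 := D.wedge_pencil hv0 hv (D.wedge_at hv0 hv hu hvu hs0 hsv hsu hmem)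
  rcases eq_or_ne z 0 with rfl | hz0
  · exact ⟨1, one_mem _, fun x => by simp [fr]⟩
  obtain ⟨g, hg, c, hc, hgz⟩ := D.symB.exists_move (by have := D.dimB; omega) hz₀0 hz₀ hz0 hz
  obtain ⟨k, hk, hkab⟩ := D.pureB hg
  obtain ⟨t, ht, htx⟩ := h0 ((c * c)⁻¹ • p) s
  refine ⟨k * t * k⁻¹, mul_mem (mul_mem hk ht) (inv_mem hk), fun x => ?_⟩
  show k (t (k⁻¹ x)) = _
  rw [htx, fr, fr, map_add, ap_inv, hkab, hgz, D.C_pureB_inv (D.symB.egrp_isom hg) hkab, hgz, D.C_smul,
    LinearMap.smul_apply]
  simp only [wedge_apply, map_sub, map_smul, LinearMap.sub_apply, LinearMap.smul_apply, smul_eq_mul]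
  match_scalars <;> field_simp

/-- the commutator of two root maps -/
theorem rt_comm (D : WData T H) {p₁ p₂ p₃ p₄ : V} (h11 : T.form p₁ p₁ = 0) (h22 : T.form p₂ p₂ = 0)
    (h33 : T.form p₃ p₃ = 0) (h44 : T.form p₄ p₄ = 0) (h12 : T.form p₁ p₂ = 0) (h34 : T.form p₃ p₄ = 0)
    (h13 : T.form p₁ p₃ = 0) (h14 : T.form p₁ p₄ = 0) (h24 : T.form p₂ p₄ = 0) (h23 : T.form p₂ p₃ = 1)
    (hg : InH H (rtMap T p₁ p₂)) (hk : InH H (rtMap T p₃ p₄)) : InH H (rtMap T p₁ p₄) := by
  obtain ⟨g, hg, hgx⟩ := hg
  obtain ⟨k, hk, hkx⟩ := hk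
  refine ⟨k * g * k⁻¹ * g⁻¹, mul_mem (mul_mem (mul_mem hk hg) (inv_mem hk)) (inv_mem hg), fun x => ?_⟩
  obtain ⟨x, rfl⟩ := (g * k).surjective x
  show k (g (k⁻¹ (g⁻¹ (g (k x))))) = _
  rw [inv_ap, inv_ap]
  show k (g x) = rtMap T p₁ p₄ (g (k x))
  simp only [hgx, hkx, rtMap, map_add, map_sub, map_smul, LinearMap.add_apply, LinearMap.sub_apply,
    LinearMap.smul_apply, smul_eq_mul, h11, h22, h33, h44, h12, h34, h13, h14, h24, h23,
    D.formV_symm p₁ p₂, D.formV_symm p₁ p₃, D.formV_symm p₁ p₄, D.formV_symm p₂ p₃, D.formV_symm p₂ p₄,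
    D.formV_symm p₃ p₄]
  module

/-- Siegel maps centred at a doubly singular pure vector: the pencil and `v⊥ ⊗ B` -/
theorem full_part (D : WData T H) (hno : ¬ NoFrame T H) {v : A} (hv0 : v ≠ 0) (hv : T.fA v v = 0)
    {z : B} (hz0 : z ≠ 0) (hz : T.fB z z = 0) :
    (∀ a, T.form (T.tau v z) (T.tau a z) = 0 ∧ InH H (sigMap T (T.tau v z) (T.tau a z))) ∧
      ∀ s b, T.fA s v = 0 →
        T.form (T.tau v z) (T.tau s b) = 0 ∧ InH H (sigMap T (T.tau v z) (T.tau s b)) := by
  have h2 := D.symA.two
  set u := T.tau v z with hudef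
  have huu : T.form u u = 0 := by rw [hudef, D.form_tau, hv, zero_mul]
  have hframe : ∀ e : B, T.fB e e = 0 → ∀ p s, InH H (rtMap T (T.tau p e) (T.tau s e)) := fun e he p s =>
    InH.congr (D.wedge_all hno he p s) (D.fr_wedge e p s)
  let R : AddSubgroup V :=
    { carrier := {w | T.form u w = 0 ∧ InH H (sigMap T u w)}
      zero_mem' := ⟨map_zero _, 1, one_mem _, fun x => by simp [sigMap]⟩
      add_mem' := fun {w w'} hw hw' => ⟨by rw [map_add, hw.1, hw'.1, add_zero],
        (hw.2.comp hw'.2).congr fun x => by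
          simp only [sigMap, map_add, map_sub, map_smul, LinearMap.add_apply, LinearMap.sub_apply,
            LinearMap.smul_apply, smul_eq_mul, huu, hw.1, hw'.1, D.formV_symm u w, D.formV_symm u w',
            D.formV_symm w w']
          match_scalars <;> field_simp <;> ring⟩
      neg_mem' := fun {w} hw => ⟨by rw [map_neg, hw.1, neg_zero], by
        obtain ⟨g, hg, hgx⟩ := hw.2
        refine ⟨g⁻¹, inv_mem hg, fun x => g.injective ?_⟩
        rw [ap_inv, hgx]
        simp only [sigMap, map_add, map_sub, map_smul, map_neg, LinearMap.neg_apply, smul_eq_mul, huu,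
          hw.1, D.formV_symm u w]
        match_scalars <;> field_simp <;> ring⟩ }
  have hroot : ∀ w, T.form u w = 0 → T.form w w = 0 → InH H (rtMap T u w) → w ∈ R := fun w h h' hm =>
    ⟨h, hm.congr fun x => by
      simp [sigMap, rtMap, h', D.formV_symm x u, D.formV_symm x w]⟩
  have hpen : ∀ a, T.tau a z ∈ R := fun a => hroot _ (by rw [hudef, D.form_tau, hz, mul_zero])
    (by rw [D.form_tau, hz, mul_zero]) (hframe z hz v a)
  obtain ⟨v', hv'v', hvv', hv'v⟩ := D.symA.partner hv0 hv
  obtain ⟨e, hee, hze, hez⟩ := D.symB.partner hz0 hz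
  -- `v⊥ ⊗ e'` for a singular `e'` seen by `z`
  have hstep : ∀ s e', T.fA s v = 0 → T.fB e' e' = 0 → T.fB z e' = 1 → InH H (rtMap T u (T.tau s e')) := by
    intro s e' hs hee' hze'
    obtain ⟨c, hcv, hc⟩ : ∃ c, T.fA c v = 0 ∧ c ∉ Submodule.span F ({s} : Set A) := by
      by_contra hh
      simp only [not_exists, not_and, not_not] at hh
      have d1 := le_finrank_perpV (f := T.fA) ![v]
      have d2 := Submodule.finrank_mono (show perpV T.fA ![v] ≤ Submodule.span F ({s} : Set A) from
        fun x hx => hh x (mem_perpV.1 hx 0))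
      have d3 : finrank F (Submodule.span F ({s} : Set A)) ≤ 1 := by
        have := finrank_span_finset_le_card (R := F) ({s} : Finset A)
        rw [Finset.coe_singleton, Finset.card_singleton] at this
        exact this
      have := D.dimA_le
      omega
    obtain ⟨φ, hφ, hφs⟩ := Submodule.exists_le_ker_of_notMem hc
    obtain ⟨a, ha⟩ := exists_repr (σ := RingHom.id F) (fun _ => rfl) T.fA D.symA.nondeg ((φ c)⁻¹ • φ)
    have hca : T.fA a c = 1 := by rw [D.symA.symm, ha]; simp [hφ]
    have hsa : T.fA a s = 0 := by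
      rw [D.symA.symm, ha, LinearMap.smul_apply, show φ s = 0 from hφs (Submodule.mem_span_singleton_self s),
        smul_zero]
    refine D.rt_comm (p₂ := T.tau a z) (p₃ := T.tau c e') ?_ ?_ ?_ ?_ ?_ ?_ ?_ ?_ ?_ ?_
      (hframe z hz v a) (hframe e' hee' c s)
    all_goals
      simp [hudef, D.form_tau, hv, hz, hee', D.symA.symm c v, hcv, D.symA.symm s v, hs, hsa, hze', hca]
  have hperpB : ∀ s b, T.fA s v = 0 → T.tau s b ∈ R := by
    intro s b hs
    let X : Submodule F B :=
      { carrier := {b | ∀ l : F, T.tau s (l • b) ∈ R}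
        add_mem' := fun {b b'} hb hb' l => by
          rw [smul_add, map_add]; exact R.add_mem (hb l) (hb' l)
        zero_mem' := fun l => by simp
        smul_mem' := fun m b hb l => by rw [smul_smul]; exact hb _ }
    have hXz : z ∈ X := fun l => by
      have := hpen (l • s)
      simpa using this
    have hXs : ∀ e', T.fB e' e' = 0 → T.fB z e' ≠ 0 → e' ∈ X := fun e' hee' hne l => by
      have hm := hstep ((l * T.fB z e') • s) ((T.fB z e')⁻¹ • e') (by simp [hs]) (by simp [hee'])
        (by simp [hne])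
      have := hroot _ (by simp [hudef, D.form_tau, D.symA.symm s v, hs])
        (by simp [D.form_tau, hee']) hm
      have e1 : T.tau s (l • e') = T.tau ((l * T.fB z e') • s) ((T.fB z e')⁻¹ • e') := by
        simp only [map_smul, LinearMap.smul_apply, smul_smul]
        congr 1
        field_simp
      rw [e1]; exact this
    have hX : ∀ b, b ∈ X := by
      intro b
      have key : ∀ b, T.fB b z ≠ 0 → b ∈ X := fun b hne => by
        set c := T.fB b b / (2 * T.fB b z) with hc
        have h := hXs (b - c • z) (by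
          simp only [map_sub, map_smul, LinearMap.sub_apply, LinearMap.smul_apply, smul_eq_mul, hz,
            D.symB.symm b z, hc]
          field_simp
          ring) (by simpa [hz, D.symB.symm b z] using hne)
        simpa using X.add_mem h (X.smul_mem c hXz)
      by_cases hne : T.fB b z = 0
      · simpa using X.sub_mem (key (b + e) (by simp [hne, hez])) (key e (by rw [hez]; exact one_ne_zero))
      · exact key b hne
    simpa using hX b 1
  exact ⟨hpen, hperpB⟩

/-- Siegel maps conjugate as their parameters move -/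
theorem sig_conj (D : WData T H) {g : V ≃ₗ[F] V} (hg : g ∈ H) {u w : V} (hu : g u = u)
    (h : InH H (sigMap T u w)) : InH H (sigMap T u (g w)) := by
  obtain ⟨k, hk, hkx⟩ := h
  refine ⟨g * k * g⁻¹, mul_mem (mul_mem hg hk) (inv_mem hg), fun x => ?_⟩
  obtain ⟨x, rfl⟩ := g.surjective x
  show g (k (g⁻¹ (g x))) = _
  rw [inv_ap, hkx]
  have e1 : T.form u (g x) = T.form u x := by
    conv_lhs => rw [← hu]
    exact D.isom g hg u x
  simp only [sigMap, map_add, map_sub, map_smul, hu, e1, D.isom g hg]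

/-- all Siegel maps centred at a doubly singular pure vector -/
theorem full_pure (D : WData T H) (hno : ¬ NoFrame T H) {v : A} (hv0 : v ≠ 0) (hv : T.fA v v = 0)
    {z : B} (hz0 : z ≠ 0) (hz : T.fB z z = 0) : FullAt T H (T.tau v z) := by
  have h2 := D.symA.two
  obtain ⟨v', hv'v', hvv', hv'v⟩ := D.symA.partner hv0 hv
  obtain ⟨e, hee, hze, hez⟩ := D.symB.partner hz0 hz
  have hv'0 : v' ≠ 0 := fun e0 => by rw [e0, map_zero] at hvv'; exact zero_ne_one hvv'
  set u := T.tau v z with hudef
  have huu : T.form u u = 0 := by rw [hudef, D.form_tau, hv, zero_mul]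
  obtain ⟨hp1, hp2⟩ := D.full_part hno hv0 hv hz0 hz
  obtain ⟨-, hq2⟩ := D.full_part hno hv'0 hv'v' hz0 hz
  let R : AddSubgroup V :=
    { carrier := {w | T.form u w = 0 ∧ InH H (sigMap T u w)}
      zero_mem' := ⟨map_zero _, 1, one_mem _, fun x => by simp [sigMap]⟩
      add_mem' := fun {w w'} hw hw' => ⟨by rw [map_add, hw.1, hw'.1, add_zero],
        (hw.2.comp hw'.2).congr fun x => by
          simp only [sigMap, map_add, map_sub, map_smul, LinearMap.add_apply, LinearMap.sub_apply,
            LinearMap.smul_apply, smul_eq_mul, huu, hw.1, hw'.1, D.formV_symm u w, D.formV_symm u w',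
            D.formV_symm w w']
          match_scalars <;> field_simp <;> ring⟩
      neg_mem' := fun {w} hw => ⟨by rw [map_neg, hw.1, neg_zero], by
        obtain ⟨g, hg, hgx⟩ := hw.2
        refine ⟨g⁻¹, inv_mem hg, fun x => g.injective ?_⟩
        rw [ap_inv, hgx]
        simp only [sigMap, map_add, map_sub, map_smul, map_neg, LinearMap.neg_apply, smul_eq_mul, huu,
          hw.1, D.formV_symm u w]
        match_scalars <;> field_simp <;> ring⟩ }
  have hpen : ∀ a, T.tau a z ∈ R := fun a => hp1 a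
  have hperp : ∀ s b, T.fA s v = 0 → T.tau s b ∈ R := fun s b hs => hp2 s b hs
  have hAperp : ∀ a d, T.fB d z = 0 → T.tau a d ∈ R := by
    intro a d hd
    have hv'd : ∀ d, T.fB d z = 0 → T.tau v' d ∈ R := fun d hd => by
      obtain ⟨g, hg, hgx⟩ := (hq2 v' d hv'v').2
      have hzd : T.fB z d = 0 := by rw [D.symB.symm, hd]
      have hgu : g u = u := by
        rw [hgx]
        simp [sigMap, hudef, D.form_tau, hz, hd, hzd, hv'v', hvv']
      have hx0 : T.tau v e ∈ R := hperp v e hv
      have hm : g (T.tau v e) ∈ R :=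
        ⟨by conv_lhs => rw [← hgu]
            rw [D.isom g hg]; exact hx0.1, D.sig_conj hg hgu hx0.2⟩
      rw [hgx] at hm
      simp only [sigMap, D.form_tau, hv'v', hv'v, hze, zero_mul, one_mul, zero_div,
        add_zero, one_smul, mul_one] at hm
      have h1 := R.sub_mem (R.add_mem hm (hpen (T.fB d e • v'))) hx0
      convert h1 using 1
      simp only [map_smul, LinearMap.smul_apply]
      abel
    have h1 : T.fA (a - T.fA a v • v') v = 0 := by simp [hv'v]
    have h := R.add_mem (hperp (a - T.fA a v • v') d h1)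
      (hv'd (T.fA a v • d) (by simp [hd]))
    have e1 : T.tau a d = T.tau (a - T.fA a v • v') d + T.tau v' (T.fA a v • d) := by simp
    rw [e1]; exact h
  intro w hw
  have h1 : T.tau (T.C z w) e ∈ R := by
    refine hperp _ e ?_
    rw [← D.form_C, D.formV_symm]
    exact hw
  have h2' : w - T.tau (T.C z w) e ∈ R := by
    refine D.perp_induction hze (p := fun x => x ∈ R) R.zero_mem (fun x y => R.add_mem)
      (fun a d hd => hAperp a d hd) (x := w - T.tau (T.C z w) e) ?_
    rw [map_sub, D.C_tau, hez, one_smul, sub_self]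
  have h := R.add_mem h1 h2'
  rw [add_sub_cancel] at h
  exact h.2

end WData

end CfsgLib.MaxSub.TWr
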