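import Cfsg.Agent.Lib.MaxSub.TWr.Kron
import Cfsg.Agent.Lib.MaxSub.Rational

/-!
`O3 ⊗ O3` with the exchange of the factors: the common centraliser of two products of axes with all axes
orthogonal consists of pure and exchanging elements.
-/

set_option autoImplicit false
set_option linter.unusedSectionVars false
set_option linter.unusedSimpArgs false
set_option linter.unusedVariables false
set_option linter.style.haveILetI false
set_option maxHeartbeats 1000000

namespace CfsgLib.MaxSub.TWr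

open Module
open CfsgLib.MaxSub.TForm

variable {F A B V : Type*} [Field F] [AddCommGroup A] [Module F A] [AddCommGroup B] [Module F B]
  [AddCommGroup V] [Module F V]

/-- a square root of one is a sign -/
theorem exists_sgn {c : F} (hc : c * c = 1) : ∃ b, c = sgn F b := by
  rcases mul_self_eq_one_iff.1 hc with h | h
  · exact ⟨false, by simp [sgn, h]⟩
  · exact ⟨true, by simp [sgn, h]⟩

/-- the classes of `P 00`, `P 11` and `D 1` separate the middle row and column -/
theorem sep_signs : ∀ p q : Fin 3 × Fin 3, (p.1 = 1 ∨ p.2 = 1) → q ≠ p →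
    xor (decide (q.1 ≠ 0)) (decide (q.2 ≠ 0)) ≠ xor (decide (p.1 ≠ 0)) (decide (p.2 ≠ 0)) ∨
    xor (decide (q.1 ≠ 1)) (decide (q.2 ≠ 1)) ≠ xor (decide (p.1 ≠ 1)) (decide (p.2 ≠ 1)) ∨
    decide (q.1 ≠ 1) ≠ decide (p.1 ≠ 1) := by decide

/-- the involutions whose product with `D 1` is an axis -/
theorem joint_signs : ∀ (ε δ : Fin 3 → Bool),
    (Finset.univ.filter fun p : Fin 3 × Fin 3 =>
      (xor (decide (p.1 ≠ 1)) (xor (ε p.1) (δ p.2))) = false).card = 3 →
    (∀ i k, (xor (ε i) (δ k)) = false) ∨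
    (Finset.univ.filter fun p : Fin 3 × Fin 3 => (xor (ε p.1) (δ p.2)) = false).card = 3 ∨
    (Finset.univ.filter fun p : Fin 3 × Fin 3 =>
      (xor (xor (decide (p.1 ≠ 0)) (ε p.1)) (xor (decide (p.2 ≠ 0)) (δ p.2))) = false).card = 3 ∨
    (Finset.univ.filter fun p : Fin 3 × Fin 3 =>
      (xor (xor (decide (p.1 ≠ 1)) (ε p.1)) (xor (decide (p.2 ≠ 1)) (δ p.2))) = false).card = 3 ∨
    (∀ i k, (xor (ε i) (δ k)) = xor (decide (i ≠ 1)) (decide (k ≠ 1))) := by decide

/-- a block of the signs of `P 00` and `P 11` -/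
theorem block_signs : ∀ q : Fin 3 × Fin 3, xor (decide (q.1 ≠ 0)) (decide (q.2 ≠ 0)) = false →
    xor (decide (q.1 ≠ 1)) (decide (q.2 ≠ 1)) = true → decide (q.2 ≠ 0) = true := by decide

namespace WData

variable {T : Sys F A B V (RingHom.id F)} {H : Subgroup (V ≃ₗ[F] V)}
variable [Finite F] [FiniteDimensional F A] [FiniteDimensional F B] [FiniteDimensional F V]

theorem dg_mul (D : WData T H) {a : Fin 3 → A} {l : Fin 3 → B} {g g' : V ≃ₗ[F] V}
    {S S' : Fin 3 → Fin 3 → Bool} (h : Dg T a l S g) (h' : Dg T a l S' g') :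
    Dg T a l (fun i k => xor (S i k) (S' i k)) (g * g') := fun i k => by
  rw [LinearEquiv.mul_apply, h', map_smul, h, smul_smul, mul_comm, sgn_mul]

theorem dg_of_axB (D : WData T H) {a : Fin 3 → A} {l : Fin 3 → B} (hl : IsFr T.fB l) {n : Fin 3}
    {g : V ≃ₗ[F] V} (h : IsAx (flipSys T) g (l n)) : Dg T a l (fun _ k => decide (k ≠ n)) g :=
  fun i k => D.flip.dg_of_ax hl (l := a) h k i

/-- the centraliser of a pure involution of count three is pure -/
theorem kron_of_count (D : WData T H) (hno : NoFrame T H) (hno' : NoFrame (flipSys T) H) {a : Fin 3 → A}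
    {l : Fin 3 → B} (ha : IsFr T.fA a) (hl : IsFr T.fB l) {ε δ : Fin 3 → Bool} {w s : V ≃ₗ[F] V}
    (hd : Dg T a l (fun i k => xor (ε i) (δ k)) w)
    (h3 : (Finset.univ.filter fun p : Fin 3 × Fin 3 => (xor (ε p.1) (δ p.2)) = false).card = 3)
    (hs : s ∈ H) (hc : s * w = w * s) : IsKron T s := by
  rcases sign_three ε δ h3 with ⟨m, hm⟩ | ⟨n, hn⟩
  · exact D.kron_of_commAx hno (ha.aniso m)
      (D.ax_of_dg ha hl (fun i k => by rw [hd i k]; beta_reduce; rw [hm])) hs hc
  · exact D.kron_of_commAxB hno' (hl.aniso n) (D.flip.ax_of_dg hl ha fun k i => by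
      show w (T.tau (a i) (l k)) = sgn F (decide (k ≠ n)) • T.tau (a i) (l k)
      rw [hd i k]; beta_reduce; rw [hn]) hs hc

/-- a pure involution preserving the middle row and column acts by signs -/
theorem dg_of_cross (D : WData T H) {a : Fin 3 → A} {l : Fin 3 → B} (ha : IsFr T.fA a) (hl : IsFr T.fB l)
    {j : V ≃ₗ[F] V} (hk : IsKron T j) (hjj : j * j = 1)
    (heig : ∀ p : Fin 3 × Fin 3, (p.1 = 1 ∨ p.2 = 1) → ∃ c : F, j (pv T a l p) = c • pv T a l p) :
    ∃ ε δ : Fin 3 → Bool, Dg T a l (fun i k => xor (ε i) (δ k)) j := by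
  obtain ⟨M, h, hab⟩ := hk
  have hne : ∀ i k, T.tau (M (a i)) (h (l k)) ≠ 0 := fun i k e => by
    rw [← hab, LinearEquiv.map_eq_zero_iff] at e
    exact (D.pv_form ha hl).2 (i, k) (by rw [show pv T a l (i, k) = 0 from e]; simp)
  have hM : ∀ i, ∃ c : F, M (a i) = c • a i := fun i => by
    obtain ⟨c, hc⟩ := heig (i, 1) (Or.inr rfl)
    obtain ⟨w, hw⟩ : ∃ w, T.fB (h (l 1)) w ≠ 0 := by
      by_contra hh
      push Not at hh
      exact hne i 1 (by rw [D.symB.nondeg _ hh, map_zero])
    have e := congrArg (T.C w) ((hab _ _).symm.trans hc)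
    rw [D.C_tau, map_smul, show pv T a l (i, 1) = T.tau (a i) (l 1) from rfl, D.C_tau, smul_smul] at e
    exact ⟨(c * T.fB (l 1) w) / T.fB (h (l 1)) w, by
      rw [div_eq_inv_mul, ← smul_smul, ← e, inv_smul_smul₀ hw]⟩
  have hh : ∀ k, ∃ c : F, h (l k) = c • l k := fun k => by
    obtain ⟨c, hc⟩ := heig (1, k) (Or.inl rfl)
    obtain ⟨w, hw⟩ : ∃ w, T.fA (M (a 1)) w ≠ 0 := by
      by_contra hh
      push Not at hh
      exact hne 1 k (by rw [D.symA.nondeg _ hh, map_zero, LinearMap.zero_apply])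
    have e := congrArg (T.C' w) ((hab _ _).symm.trans hc)
    rw [D.C'_tau, map_smul, show pv T a l (1, k) = T.tau (a 1) (l k) from rfl, D.C'_tau, smul_smul] at e
    exact ⟨(c * T.fA (a 1) w) / T.fA (M (a 1)) w, by
      rw [div_eq_inv_mul, ← smul_smul, ← e, inv_smul_smul₀ hw]⟩
  choose α hα using hM
  choose β hβ using hh
  have hj : ∀ i k, j (T.tau (a i) (l k)) = (α i * β k) • T.tau (a i) (l k) := fun i k => by
    rw [hab, hα, hβ, map_smul, map_smul, LinearMap.smul_apply, smul_smul, mul_comm]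
  have hsq : ∀ i k, ∃ b, α i * β k = sgn F b := fun i k => by
    refine exists_sgn (smul_left_injective F (show T.tau (a i) (l k) ≠ 0 from fun e =>
      (D.pv_form ha hl).2 (i, k) (by rw [show pv T a l (i, k) = 0 from e]; simp)) ?_)
    · have e := LinearEquiv.congr_fun hjj (T.tau (a i) (l k))
      rw [LinearEquiv.mul_apply, hj, map_smul, hj, smul_smul] at e
      exact e.trans (one_smul F _).symm
  choose S hS using hsq
  refine ⟨fun i => S i 0, fun k => xor (S 0 k) (S 0 0), fun i k => ?_⟩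
  rw [hj, hS]
  congr 2
  refine sgn_inj (F := F) D.symA.two ?_
  rw [← sgn_mul, ← sgn_mul, ← hS, ← hS, ← hS, ← hS]
  have h00 : (α 0 * β 0) * (α 0 * β 0) = 1 := by rw [hS, sgn_self]
  linear_combination -(α i * β k) * h00

/-- the common centraliser of `P 00` and `P 11` -/
theorem joint (D : WData T H) (hno : NoFrame T H) (hno' : NoFrame (flipSys T) H) {a : Fin 3 → A}
    {l : Fin 3 → B} (ha : IsFr T.fA a) (hl : IsFr T.fB l) {u u₂ t x g : V ≃ₗ[F] V} (huH : u ∈ H)
    (hu : IsP T u (a 0) (l 0)) (hu₂H : u₂ ∈ H) (hu₂ : IsP T u₂ (a 1) (l 1)) (htH : t ∈ H)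
    (ht : IsAx T t (a 1)) (hxH : x ∈ H) (hx : IsAx (flipSys T) x (l 0)) (hg : g ∈ H)
    (hgu : g * u = u * g) (hgu₂ : g * u₂ = u₂ * g) : Gd T g := by
  haveI : Finite V := Module.finite_of_finite F
  haveI : Finite (V ≃ₗ[F] V) := Finite.of_injective _ DFunLike.coe_injective
  have du := D.dg_of_p ha hl hu
  have du₂ := D.dg_of_p ha hl hu₂
  have dt := D.dg_of_ax ha (l := l) ht
  have dx := D.dg_of_axB (a := a) hl hx
  set s := g * x * g⁻¹ with hsdef
  have hgx : g * x = s * g := by rw [hsdef, inv_mul_cancel_right]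
  have hsH : s ∈ H := mul_mem (mul_mem hg hxH) (inv_mem hg)
  suffices hs : IsKron T s from D.gd_of_conj_axB hno hno' (hl.aniso 0) hxH hx hg hsH hs hgx
  let K : Subgroup (V ≃ₗ[F] V) :=
    { carrier := {n | n ∈ H ∧ Commute n u ∧ Commute n u₂}
      one_mem' := ⟨one_mem _, Commute.one_left _, Commute.one_left _⟩
      mul_mem' := fun h h' => ⟨mul_mem h.1 h'.1, h.2.1.mul_left h'.2.1, h.2.2.mul_left h'.2.2⟩
      inv_mem' := fun h => ⟨inv_mem h.1, h.2.1.inv_left, h.2.2.inv_left⟩ }
  have hgK : g ∈ K := ⟨hg, hgu, hgu₂⟩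
  have htK : t ∈ K := ⟨htH, D.dg_mul_comm ha hl dt du, D.dg_mul_comm ha hl dt du₂⟩
  have hxK : x ∈ K := ⟨hxH, D.dg_mul_comm ha hl dx du, D.dg_mul_comm ha hl dx du₂⟩
  have hsK : s ∈ K := mul_mem (mul_mem hgK hxK) (inv_mem hgK)
  have ht2 : t * t = 1 := D.ax_sq (ha.aniso 1) ht
  have hx2 : x * x = 1 := D.flip.ax_sq (hl.aniso 0) hx
  have hs2 : s * s = 1 := by
    rw [hsdef, show g * x * g⁻¹ * (g * x * g⁻¹) = g * (x * x) * g⁻¹ by group, hx2, mul_one, mul_inv_cancel]
  have hnc : ¬ IsConj (⟨t, htK⟩ : K) ⟨s, hsK⟩ := fun h => by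
    obtain ⟨r, hr⟩ := isConj_iff.1 h
    have hr' : r.1 * t * r.1⁻¹ = g * x * g⁻¹ := congrArg Subtype.val hr
    set c := r.1⁻¹ * g with hcdef
    have hcK : c ∈ K := mul_mem (inv_mem r.2) hgK
    have e : c * (x * u₂) = t * u₂ * c := by
      have e1 : c * x = t * c := by
        calc r.1⁻¹ * g * x = r.1⁻¹ * (g * x * g⁻¹) * g := by group
          _ = r.1⁻¹ * (r.1 * t * r.1⁻¹) * g := by rw [hr']
          _ = t * (r.1⁻¹ * g) := by group
      rw [← mul_assoc, e1, mul_assoc, hcK.2.2.eq, ← mul_assoc]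
    have hh := D.card_class_eq (mul_mem hxH hu₂H) (mul_mem htH hu₂H) e ha hl ha hl (D.dg_mul dx du₂) (D.dg_mul dt du₂)
    revert hh
    decide
  obtain ⟨jK, hjz, hj1, hj2, hjt, hjs, hjc⟩ := exists_commuting_involution (⟨t, htK⟩ : K) ⟨s, hsK⟩
    (Subtype.ext ht2) (Subtype.ext hs2) hnc
  set j := jK.1 with hjdef
  have hjt' : j * t = t * j := congrArg Subtype.val hjt.eq
  have hjs' : s * j = j * s := (congrArg Subtype.val hjs.eq).symm
  have hjj : j * j = 1 := congrArg Subtype.val hj2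
  have hjH : j ∈ H := jK.2.1
  have hjk : IsKron T j := D.kron_of_commAx hno (ha.aniso 1) ht hjH hjt'
  obtain ⟨ε, δ, dj⟩ := D.dg_of_cross ha hl hjk hjj fun p hp => by
    refine ⟨T.form (j (pv T a l p)) (pv T a l p) / T.form (pv T a l p) (pv T a l p), ?_⟩
    conv_lhs => rw [D.pv_expand ha hl (j (pv T a l p))]
    refine Finset.sum_eq_single p (fun q _ hq => ?_) (by simp)
    have hz : T.form (j (pv T a l p)) (pv T a l q) = 0 := by
      rcases sep_signs p q hp hq with h | h | h
      · exact D.map_class huH jK.2.2.1.eq du du h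
      · exact D.map_class hu₂H jK.2.2.2.eq du₂ du₂ h
      · exact D.map_class htH hjt' dt dt h
    rw [hz, zero_div, zero_smul]
  have h3 : (Finset.univ.filter fun p : Fin 3 × Fin 3 =>
      (xor (decide (p.1 ≠ 1)) (xor (ε p.1) (δ p.2))) = false).card = 3 := by
    rcases hjc with hjc | hjc
    · obtain ⟨r, hr⟩ := isConj_iff.1 hjc
      have hr' : r.1 * t * r.1⁻¹ = t * j := congrArg Subtype.val hr
      rw [← D.card_class_eq htH (mul_mem htH hjH) (g := r.1) (by rw [← hr']; group) ha hl ha hl dt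
        (D.dg_mul dt dj)]
      exact axis_card 1
    · obtain ⟨r, hr⟩ := isConj_iff.1 hjc
      have hr' : r.1 * (g * x * g⁻¹) * r.1⁻¹ = t * j := congrArg Subtype.val hr
      rw [← D.card_class_eq hxH (mul_mem htH hjH) (g := r.1 * g) (by rw [← hr']; group) ha hl ha hl dx
        (D.dg_mul dt dj)]
      decide
  have hsu : Commute s u := hsK.2.1
  have hsu₂ : Commute s u₂ := hsK.2.2
  rcases joint_signs ε δ h3 with h | h | h | h | h
  · refine absurd (Subtype.ext (LinearEquiv.toLinearMap_injective (D.ext_fr ha hl fun i k => ?_))) hj1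
    show j (T.tau (a i) (l k)) = T.tau (a i) (l k)
    rw [dj i k]; beta_reduce; rw [h i k]; simp [sgn]
  · exact D.kron_of_count hno hno' ha hl dj h hsH hjs'
  · refine D.kron_of_count hno hno' ha hl (w := u * j) (ε := fun i => xor (decide (i ≠ 0)) (ε i))
      (δ := fun k => xor (decide (k ≠ 0)) (δ k)) (fun i k => ?_) h hsH (hsu.mul_right hjs').eq
    rw [D.dg_mul du dj i k]
    congr 2
    exact (show ∀ p q e d : Bool, xor (xor p q) (xor e d) = xor (xor p e) (xor q d) by decide) _ _ _ _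
  · refine D.kron_of_count hno hno' ha hl (w := u₂ * j) (ε := fun i => xor (decide (i ≠ 1)) (ε i))
      (δ := fun k => xor (decide (k ≠ 1)) (δ k)) (fun i k => ?_) h hsH (hsu₂.mul_right hjs').eq
    rw [D.dg_mul du₂ dj i k]
    congr 2
    exact (show ∀ p q e d : Bool, xor (xor p q) (xor e d) = xor (xor p e) (xor q d) by decide) _ _ _ _
  · -- `j = P 11` would make `t s` fix a vector it moves
    exfalso
    set v := T.tau (a 2) (l 1) with hv
    set w := g⁻¹ v with hw
    have hgw : g w = v := ap_inv g v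
    have euv : u v = v := by rw [hv, du 2 1]; simp [sgn]
    have eu₂v : u₂ v = -v := by rw [hv, du₂ 2 1]; simp [sgn]
    have huw : u w = w := g.injective (by
      rw [← LinearEquiv.mul_apply, hgu, LinearEquiv.mul_apply, hgw, euv])
    have hu₂w : u₂ w = -w := g.injective (by
      rw [← LinearEquiv.mul_apply, hgu₂, LinearEquiv.mul_apply, hgw, eu₂v, map_neg, hgw])
    have hxw : x w = -w := by
      have h2 := D.symA.two
      conv_lhs => rw [D.pv_expand ha hl w]
      conv_rhs => rw [D.pv_expand ha hl w]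
      rw [map_sum, ← Finset.sum_neg_distrib]
      refine Finset.sum_congr rfl fun q _ => ?_
      rw [map_smul, show x (pv T a l q) = _ from dx q.1 q.2]
      by_cases h0 : T.form w (pv T a l q) = 0
      · rw [h0]; simp
      have e1 := D.isom u huH w (pv T a l q)
      rw [huw, show u (pv T a l q) = _ from du q.1 q.2, map_smul, smul_eq_mul] at e1
      have e2 := D.isom u₂ hu₂H w (pv T a l q)
      rw [hu₂w, show u₂ (pv T a l q) = _ from du₂ q.1 q.2, map_smul, map_neg, LinearMap.neg_apply,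
        smul_eq_mul] at e2
      have s1 : sgn F (xor (decide (q.1 ≠ 0)) (decide (q.2 ≠ 0))) = 1 :=
        mul_right_cancel₀ h0 (e1.trans (one_mul _).symm)
      have s2 : sgn F (xor (decide (q.1 ≠ 1)) (decide (q.2 ≠ 1))) = -1 :=
        mul_right_cancel₀ h0 (by
          simp only [pv] at e2 ⊢
          linear_combination -e2)
      have b1 := sgn_inj (b := false) h2 (s1.trans (show (1 : F) = sgn F false from rfl))
      have b2 := sgn_inj (b := true) h2 (s2.trans (show (-1 : F) = sgn F true from rfl))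
      beta_reduce
      rw [block_signs q b1 b2]
      simp [sgn, pv]
    have hsv : s v = -v := by
      show g (x (g⁻¹ v)) = _
      rw [← hw, hxw, map_neg, hgw]
    have hts : t * s ∈ MulAction.stabilizer (V ≃ₗ[F] V) v := by
      show t (s v) = v
      rw [hsv, map_neg, hv, dt 2 1]
      simp [sgn]
    have hjv : j v = v := by
      obtain ⟨n, hn⟩ := Subgroup.mem_zpowers_iff.1 hjz
      rw [hjdef, ← hn]
      exact zpow_mem hts n
    rw [hv, dj 2 1] at hjv
    beta_reduce at hjv
    rw [h 2 1] at hjv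
    simp [sgn] at hjv
    exact (D.pv_form ha hl).2 (2, 1) (by
      have : (2 : F) • pv T a l (2, 1) = 0 := by
        rw [two_smul]; nth_rewrite 1 [show pv T a l (2, 1) = -pv T a l (2, 1) from hjv.symm]
        exact neg_add_cancel _
      rw [(smul_eq_zero.1 this).resolve_left D.symA.two]; simp)

end WData

end CfsgLib.MaxSub.TWr
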