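import Cfsg.Agent.Lib.MaxSub.TWr.Group
import Cfsg.Agent.Lib.MaxSub.TWr.Joint

/-!
`O3 ⊗ O3` with the exchange of the factors: the centraliser of a product of axes whose two axial involutions
lie in the group consists of pure and exchanging elements.
-/

set_option autoImplicit false
set_option linter.unusedSectionVars false
set_option linter.unusedSimpArgs false
set_option linter.unusedVariables false
set_option linter.style.haveILetI false
set_option maxHeartbeats 1000000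

namespace CfsgLib.MaxSub.TWr

open Module
open CfsgLib.MaxSub.TForm

variable {F A B V : Type*} [Field F] [AddCommGroup A] [Module F A] [AddCommGroup B] [Module F B]
  [AddCommGroup V] [Module F V]

namespace WData

variable {T : Sys F A B V (RingHom.id F)} {H : Subgroup (V ≃ₗ[F] V)}
variable [Finite F] [FiniteDimensional F A] [FiniteDimensional F B] [FiniteDimensional F V]

/-- the centraliser of a product of axes -/
theorem cu (D : WData T H) (hno : NoFrame T H) (hno' : NoFrame (flipSys T) H) {a₀ : A} {l₀ : B}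
    (ha₀ : T.fA a₀ a₀ ≠ 0) (hl₀ : T.fB l₀ l₀ ≠ 0) {z₀ w₀ u g : V ≃ₗ[F] V} (hz₀H : z₀ ∈ H)
    (hz₀ : IsAx T z₀ a₀) (hw₀H : w₀ ∈ H) (hw₀ : IsAx (flipSys T) w₀ l₀) (huH : u ∈ H)
    (hu : IsP T u a₀ l₀) (hg : g ∈ H) (hgu : g * u = u * g) : Gd T g := by
  haveI : Finite V := Module.finite_of_finite F
  haveI : Finite (V ≃ₗ[F] V) := Finite.of_injective _ DFunLike.coe_injective
  obtain ⟨a₁, ha01, ha₁, t, htH, ht : IsAx T t a₁⟩ := D.axA a₀ ha₀
  obtain ⟨l₁, hl01, hl₁, e, heH, he : IsAx (flipSys T) e l₁⟩ := D.axB l₀ hl₀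
  obtain ⟨a₂, ha⟩ := exists_fr_pair D.symA D.dimA ha₀ ha₁ ha01
  obtain ⟨l₂, hl⟩ := exists_fr_pair D.symB D.dimB hl₀ hl₁ hl01
  have hna : T.fA a₂ a₂ ≠ 0 := by simpa using ha.aniso 2
  have hnl : T.fB l₂ l₂ ≠ 0 := by simpa using hl.aniso 2
  set x := t * e
  have hxH : x ∈ H := mul_mem htH heH
  have hx : IsP T x a₁ l₁ := (D.p_of_ax ht he).1
  have hxu : IsP T (x * u) a₂ l₂ := fun v b => by
    have h1 := refl_mul D.symA D.dimA ha (i := 1) (j := 0) (k := 2) (by decide) (by decide) (by decide) v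
    have h2 := refl_mul D.symB D.dimB hl (i := 1) (j := 0) (k := 2) (by decide) (by decide) (by decide) b
    simp only [Matrix.cons_val_zero, Matrix.cons_val_one, Matrix.cons_val, Matrix.head_cons] at h1 h2
    rw [LinearEquiv.mul_apply, hu, hx, h1, h2]
  have du : Dg T ![a₀, a₁, a₂] ![l₀, l₁, l₂] _ u := D.dg_of_p ha hl (m := 0) (n := 0) hu
  have dx : Dg T ![a₀, a₁, a₂] ![l₀, l₁, l₂] _ x := D.dg_of_p ha hl (m := 1) (n := 1) hx
  have dt : Dg T ![a₀, a₁, a₂] ![l₀, l₁, l₂] _ t := D.dg_of_ax ha (l := ![l₀, l₁, l₂]) (m := 1) ht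
  have dz : Dg T ![a₀, a₁, a₂] ![l₀, l₁, l₂] _ z₀ := D.dg_of_ax ha (l := ![l₀, l₁, l₂]) (m := 0) hz₀
  have hzu : Commute z₀ u := D.dg_mul_comm ha hl dz du
  let K : Subgroup (V ≃ₗ[F] V) :=
    { carrier := {n | n ∈ H ∧ Commute n u}
      one_mem' := ⟨one_mem _, Commute.one_left _⟩
      mul_mem' := fun h h' => ⟨mul_mem h.1 h'.1, h.2.mul_left h'.2⟩
      inv_mem' := fun h => ⟨inv_mem h.1, h.2.inv_left⟩ }
  have hgK : g ∈ K := ⟨hg, hgu⟩
  have htK : t ∈ K := ⟨htH, D.dg_mul_comm ha hl dt du⟩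
  have hxK : x ∈ K := ⟨hxH, D.dg_mul_comm ha hl dx du⟩
  set s := g * x * g⁻¹ with hsdef
  have hsK : s ∈ K := mul_mem (mul_mem hgK hxK) (inv_mem hgK)
  have hsH : s ∈ H := hsK.1
  have hsu : Commute s u := hsK.2
  have ht2 : t * t = 1 := D.ax_sq ha₁ ht
  have hs2 : s * s = 1 := by
    rw [hsdef, show g * x * g⁻¹ * (g * x * g⁻¹) = g * (x * x) * g⁻¹ by group, D.p_sq ha₁ hl₁ hx, mul_one,
      mul_inv_cancel]
  have hnc : ¬ IsConj (⟨t, htK⟩ : K) ⟨s, hsK⟩ := fun h => by
    obtain ⟨r, hr⟩ := isConj_iff.1 h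
    have hr' : r.1 * t * r.1⁻¹ = g * x * g⁻¹ := congrArg Subtype.val hr
    have e : g⁻¹ * r.1 * t = x * (g⁻¹ * r.1) := by
      calc g⁻¹ * r.1 * t = g⁻¹ * (r.1 * t * r.1⁻¹) * r.1 := by group
        _ = g⁻¹ * (g * x * g⁻¹) * r.1 := by rw [hr']
        _ = x * (g⁻¹ * r.1) := by group
    have hh := D.card_class_eq htH hxH e ha hl ha hl dt dx
    revert hh
    decide
  obtain ⟨jK, -, hj1, hj2, hjt, hjs, hjc⟩ := exists_commuting_involution (⟨t, htK⟩ : K) ⟨s, hsK⟩
    (Subtype.ext ht2) (Subtype.ext hs2) hnc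
  set j := jK.1 with hjdef
  have hjt' : j * t = t * j := congrArg Subtype.val hjt.eq
  have hjs' : Commute s j := (congrArg Subtype.val hjs.eq).symm
  have hjH : j ∈ H := jK.2.1
  have hju : Commute j u := jK.2.2
  set w := t * j with hwdef
  have hjw : j = t * w := by rw [hwdef, ← mul_assoc, ht2, one_mul]
  have hwH : w ∈ H := mul_mem htH hjH
  have hwK : IsKron T w := D.kron_mul (kron_of_isAx ht) (D.kron_of_commAx hno ha₁ ht hjH hjt')
  have hwt : t * w = w * t := by rw [hwdef, mul_assoc, hjt']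
  have hwu : Commute w u := htK.2.mul_left hju
  have hspure : IsKron T s := by
    suffices h : Gd T s from h.resolve_right
      (D.not_swap hs2 ha₁ hl₁ hx (k := g⁻¹) (by rw [hsdef]; group))
    rcases hjc with hjc | hjc
    · obtain ⟨r, hr⟩ := isConj_iff.1 hjc
      have hr' : r.1 * t * r.1⁻¹ = t * j := congrArg Subtype.val hr
      rcases D.ax_of_kron ha₁ htH ht hwH hwK (g := r.1) (by rw [hwdef, ← hr']; group) with
        ⟨p, hp, hwp⟩ | ⟨y, hy, hwy⟩
      · have hne : w ≠ t := fun e0 => hj1 (Subtype.ext (by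
          show j = 1
          rw [hjw, e0, ht2]))
        obtain ⟨r', hr', hjax⟩ := D.ax_mul ha₁ hp (D.ax_comm ha₁ hp ht hwp hwt hne) ht hwp
        rw [← hjw] at hjax
        exact Or.inl (D.kron_of_commAx hno hr' hjax hsH hjs'.eq)
      · have hju' : IsP T j a₁ y := by rw [hjw]; exact (D.p_of_ax ht hwy).1
        have hP : IsP T (w * u * w) a₀ (refl T.fB y l₀) := fun v b => by
          have hw' : ∀ v b, w (T.tau v b) = T.tau v (refl T.fB y b) := fun v b => hwy b v
          rw [LinearEquiv.mul_apply, LinearEquiv.mul_apply, hw', hu, hw', refl_conj D.symB hy]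
        rw [hwu.eq, mul_assoc, D.flip.ax_sq hy hwy, mul_one] at hP
        rcases comm_refl D.symB hy hl₀ (D.p_unique ha₀ ha₀ (by rwa [refl_isom D.symB hy]) hl₀ hP hu).2 with
          ⟨c, hc, rfl⟩ | hy0
        · -- `u j` is an axis
          refine Or.inl (D.kron_of_commAx hno hna (z := u * j) (fun v b => ?_) hsH (hsu.mul_right hjs').eq)
          rw [LinearEquiv.mul_apply, hju', hu, refl_smul hc, refl_refl hy]
          congr 2
          simpa using refl_mul D.symA D.dimA ha (i := 0) (j := 1) (k := 2) (by decide) (by decide) (by decide) v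
        · obtain ⟨l₂', hl'⟩ := exists_fr_pair D.symB D.dimB hl₀ hy (by rw [D.symB.symm]; exact hy0)
          exact D.joint hno hno' ha hl' huH hu hjH hju' htH ht hw₀H hw₀ hsH hsu.eq hjs'.eq
    · obtain ⟨r, hr⟩ := isConj_iff.1 hjc
      have hr' : r.1 * (g * x * g⁻¹) * r.1⁻¹ = t * j := congrArg Subtype.val hr
      have hconj : r.1 * g * x = w * (r.1 * g) := by rw [hwdef, ← hr']; group
      obtain ⟨p, q, hp, hq, hwp⟩ := D.p_of_kron ha₁ hl₁ hxH hx hwH hwK hconj
      have hrgu : Commute (r.1 * g) u := r.2.2.mul_left hgu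
      obtain ⟨p', q', hp', hq', hwu'⟩ := D.p_of_kron hna hnl (mul_mem hxH huH) hxu (mul_mem hwH huH)
        (D.kron_mul hwK (kron_of_isP hu)) (g := r.1 * g) (by
          rw [← mul_assoc (r.1 * g), hconj, mul_assoc, hrgu.eq, ← mul_assoc])
      obtain ⟨hpa, hql⟩ := D.p_comm_perp hp hq ha₀ hl₀ hwp hu hwu.eq hp' hq' hwu'
      rcases D.p_ax_comm ha₁ hp hq ht hwp hwt with ⟨c, hc, rfl⟩ | hpa₁
      · refine Or.inl (D.kron_of_commAxB hno' hq (z := j) (fun b v => ?_) hsH hjs'.eq)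
        show j (T.tau v b) = T.tau v (refl T.fB q b)
        rw [hjw, LinearEquiv.mul_apply, hwp, ht, refl_smul hc, refl_refl ha₁]
      · have hfr : IsFr T.fA ![a₀, a₁, p] :=
          ⟨fun i k hik => by
            fin_cases i <;> fin_cases k <;> first
              | exact absurd rfl hik
              | simp [ha01, hpa, hpa₁, (D.symA.symm a₀ a₁).trans ha01, (D.symA.symm a₀ p).trans hpa,
                  (D.symA.symm a₁ p).trans hpa₁],
           fun i => by fin_cases i <;> simp [ha₀, ha₁, hp]⟩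
        obtain ⟨q₂, hfq⟩ := exists_fr_pair D.symB D.dimB hl₀ hq hql
        refine Or.inl (D.kron_of_commAxB hno' (by simpa using hfq.aniso 2 : T.fB q₂ q₂ ≠ 0) (z := u * j)
          (fun b v => ?_) hsH (hsu.mul_right hjs').eq)
        show (u * j) (T.tau v b) = T.tau v (refl T.fB q₂ b)
        rw [hjw, LinearEquiv.mul_apply, LinearEquiv.mul_apply, hwp, ht, hu]
        have h1 := refl_mul D.symA D.dimA hfr (i := 1) (j := 2) (k := 0) (by decide) (by decide) (by decide) v
        have h2 := refl_mul D.symB D.dimB hfq (i := 0) (j := 1) (k := 2) (by decide) (by decide) (by decide) b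
        simp only [Matrix.cons_val_zero, Matrix.cons_val_one, Matrix.cons_val, Matrix.head_cons] at h1 h2
        rw [h1, refl_refl ha₀, h2]
  obtain ⟨p, q, hp, hq, hsp⟩ := D.p_of_kron ha₁ hl₁ hxH hx hsH hspure (g := g) (by rw [hsdef]; group)
  obtain ⟨p', q', hp', hq', hsu'⟩ := D.p_of_kron hna hnl (mul_mem hxH huH) hxu (mul_mem hsH huH)
    (D.kron_mul hspure (kron_of_isP hu)) (g := g) (by
      have hgx : g * x = s * g := by rw [hsdef]; group
      rw [← mul_assoc g, hgx, mul_assoc, hgu, ← mul_assoc])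
  obtain ⟨hpa, hql⟩ := D.p_comm_perp hp hq ha₀ hl₀ hsp hu hsu.eq hp' hq' hsu'
  -- pull `D 0` back into the common centraliser of `u` and `x`
  set y := g⁻¹ * z₀ * g with hy
  have hyH : y ∈ H := mul_mem (mul_mem (inv_mem hg) hz₀H) hg
  obtain ⟨r', hr', -, hzs⟩ := D.ax_mul_p ha₀ hp hpa hz₀ hsp
  have hcz : z₀ * (g * x * g⁻¹) = g * x * g⁻¹ * z₀ := D.ext_lin fun v b => by
    show z₀ (s (T.tau v b)) = s (z₀ (T.tau v b))
    rw [hsp, hz₀, hz₀, hsp, refl_comm D.symA hpa]
  have hyx : y * x = x * y := by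
    calc g⁻¹ * z₀ * g * x = g⁻¹ * (z₀ * (g * x * g⁻¹)) * g := by group
      _ = g⁻¹ * (g * x * g⁻¹ * z₀) * g := by rw [hcz]
      _ = x * (g⁻¹ * z₀ * g) := by group
  have hyu : Commute y u := ((Commute.inv_left hgu).mul_left hzu).mul_left hgu
  rcases D.joint hno hno' ha hl huH hu hxH hx htH ht hw₀H hw₀ hyH hyu.eq hyx with hk | hsw
  · have h1 : Gd T (g⁻¹ : V ≃ₗ[F] V) :=
      D.gd_of_conj_ax hno hno' ha₀ hz₀H hz₀ (inv_mem hg) hyH hk (by rw [hy]; group)
    have h2 := D.gd_inv h1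
    rwa [inv_inv] at h2
  · refine absurd (D.swap_mul_kron hsw (kron_of_isP hx)) (D.not_swap (k := g) ?_ hr' hq hzs ?_)
    · have hyy : y * y = 1 := by
        rw [hy, show g⁻¹ * z₀ * g * (g⁻¹ * z₀ * g) = g⁻¹ * (z₀ * z₀) * g by group, D.ax_sq ha₀ hz₀]
        group
      calc y * x * (y * x) = y * (x * y) * x := by group
        _ = y * y * (x * x) := by rw [← hyx]; group
        _ = 1 := by rw [hyy, D.p_sq ha₁ hl₁ hx, mul_one]
    · rw [hy, hsdef]; group

end WData

end CfsgLib.MaxSub.TWr
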