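import Cfsg.Agent.Lib.MaxSub.TWr.Slice
import Cfsg.Agent.Lib.HallHigman.Linear

/-!
`O3 ⊗ O3` with the exchange of the factors, no Siegel maps at singular pencils: the fixer of an anisotropic
slice centralises the pure Eichler elements, by coprime generation or, over a prime field, by Theorem B of
Hall and Higman.
-/

set_option autoImplicit false
set_option linter.unusedSectionVars false
set_option linter.unusedSimpArgs false
set_option linter.unusedVariables false
set_option linter.style.haveILetI false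
set_option maxHeartbeats 1000000

namespace CfsgLib.MaxSub.TWr

open Module
open CfsgLib.MaxSub.TForm

variable {F A B V : Type*} [Field F] [AddCommGroup A] [Module F A] [AddCommGroup B] [Module F B]
  [AddCommGroup V] [Module F V]

namespace WData

variable {T : Sys F A B V (RingHom.id F)} {H : Subgroup (V ≃ₗ[F] V)}
variable [Finite F] [FiniteDimensional F A] [FiniteDimensional F B] [FiniteDimensional F V]

theorem char_ge_five (D : WData T H) {p : ℕ} [Fact p.Prime] [CharP F p] (hpF : ¬ p < Nat.card F) :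
    5 ≤ p := by
  cases nonempty_fintype F
  have hp := (Fact.out : p.Prime)
  have h2 : p ≠ 2 := fun h => D.symA.two (by
    have := CharP.cast_eq_zero F p
    rw [h] at this
    simpa using this)
  have h3 : p ≠ 3 := fun h => by
    obtain ⟨n, -, hn⟩ := FiniteField.card F p
    have hc : Fintype.card F = 3 := by
      refine le_antisymm ?_ ?_
      · rw [Nat.card_eq_fintype_card] at hpF; omega
      · rw [hn, ← h]; exact Nat.le_self_pow n.pos.ne' p
    obtain ⟨R, hR, hR1⟩ := D.big
    have h4 := FiniteField.pow_card_sub_one_eq_one R hR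
    rw [hc] at h4
    exact hR1 (by rw [← pow_two]; exact h4)
  have h4 : p ≠ 4 := fun h => by rw [h] at hp; norm_num at hp
  have := hp.two_le
  omega

/-- a pure Eichler element is quadratic unipotent of degree three -/
theorem eich_cube (D : WData T H) {z r : B} (hz : T.fB z z = 0) (hr : T.fB r z = 0) {k : V ≃ₗ[F] V}
    (hkab : ∀ a b, k (T.tau a b) = T.tau a (eich T.fB z r b)) :
    ((k : V →ₗ[F] V) - 1) ^ 3 = (0 : Module.End F V) := by
  have hzr : T.fB z r = 0 := by rw [D.symB.symm, hr]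
  have hN : ∀ a b, ((k : V →ₗ[F] V) - 1 : Module.End F V) (T.tau a b) =
      T.tau a (eich T.fB z r b - b) := fun a b => by
    show k (T.tau a b) - T.tau a b = _
    rw [hkab, map_sub]
  refine D.ext_tau fun a b => ?_
  simp only [pow_succ, pow_zero, one_mul, Module.End.mul_apply, hN, LinearMap.zero_apply]
  have e : ∀ c d : F, eich T.fB z r (c • r + d • z) - (c • r + d • z) = -(c * T.fB r r) • z := fun c d => by
    simp only [eich_apply, map_add, map_smul, LinearMap.add_apply, LinearMap.smul_apply, smul_eq_mul, hr,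
      hzr, hz, mul_zero, add_zero, zero_smul, smul_zero]
    module
  have e1 : eich T.fB z r b - b =
      T.fB b z • r + -(T.fB b r + T.fB r r / 2 * T.fB b z) • z := by
    rw [eich_apply]; module
  rw [e1, e, show ∀ c : F, c • z = (0 : F) • r + c • z from fun c => by rw [zero_smul, zero_add], e]
  simp

/-- the fixer of a slice centralises the pure Eichler elements -/
theorem fix_comm (D : WData T H) (hno : NoFrame T H) {a₀ : A} (ha₀ : T.fA a₀ a₀ ≠ 0) {n : V ≃ₗ[F] V}
    (hn : n ∈ fixA T H a₀) {z r : B} (hz0 : z ≠ 0) (hz : T.fB z z = 0) (hr : T.fB r z = 0)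
    {k : V ≃ₗ[F] V} (hk : k ∈ H) (hkab : ∀ a b, k (T.tau a b) = T.tau a (eich T.fB z r b)) :
    n * k = k * n := by
  haveI : Finite V := Module.finite_of_finite F
  haveI : Finite (V ≃ₗ[F] V) := Finite.of_injective _ DFunLike.coe_injective
  obtain ⟨p, hp⟩ := CharP.exists F
  haveI := hp
  haveI : Fact p.Prime := ⟨CharP.char_is_prime F p⟩
  obtain ⟨e, r₁, Y⟩ := D.exists_hyp hz0 hz
  have ha0 : a₀ ≠ 0 := fun h => ha₀ (by simp [h])
  have hkU : k ∈ D.eichSub (e := e) hz := by
    refine ⟨hk, r + (-T.fB r e) • z, by simp [hr, hz], by simp [Y.ze], fun a b => ?_⟩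
    rw [hkab, D.eich_shift hz hr]
  by_cases hpF : p < Nat.card F
  swap
  · by_contra hne
    have hp5 := D.char_ge_five hpF
    have hN : (Nat.card (fixA T H a₀)).Coprime p :=
      ((Fact.out : p.Prime).coprime_iff_not_dvd.2 (D.fix_not_dvd hno ha₀ p)).symm
    have hxP : k ^ p ^ 1 = 1 := by rw [pow_one]; exact D.eich_pow_char hz hr hkab p
    obtain ⟨q, Q, hq, hqp, hQ, -, hxQ, g, hg, hne'⟩ := CfsgLib.HallHigman.exists_invariant_moved Fact.out hN
      (D.eichSub_le_normalizer Y a₀ hkU) hxP (y := k) ⟨n, hn, fun h => hne h.symm⟩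
    let ρ : Representation F (V ≃ₗ[F] V) V :=
      { toFun := fun g => (g : V →ₗ[F] V), map_one' := rfl, map_mul' := fun g g' => rfl }
    have hb := CfsgLib.HallHigman.exceptional_of_pow_eq_zero ρ Fact.out hq hqp hQ hxQ le_rfl hxP
      ⟨g, hg, fun h => hne' (LinearEquiv.toLinearMap_injective (by rw [Nat.sub_self, pow_zero, pow_one] at h; exact h))⟩
      (k := 3) (D.eich_cube hz hr hkab)
    rcases hb with hb | ⟨a, b, ha1, ha2, hb1, he, hle, -⟩
    · rw [pow_one] at hb; omega
    · obtain rfl : a = 1 := by omega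
      rw [pow_one] at he
      rw [Nat.sub_self, pow_zero, one_mul] at hle
      omega
  obtain ⟨m, hm⟩ := (IsPGroup.iff_card.1 (D.eichSub_pGroup (e := e) (hz := hz) p))
  have hcop : (Nat.card (D.eichSub (e := e) hz)).Coprime (Nat.card (fixA T H a₀)) := by
    rw [hm]
    exact ((Fact.out : p.Prime).coprime_iff_not_dvd.2 (D.fix_not_dvd hno ha₀ p)).pow_left m
  have hle : fixA T H a₀ ≤ Subgroup.centralizer (D.eichSub (e := e) hz : Set (V ≃ₗ[F] V)) := by
    rw [← CfsgLib.Coprime.iSup_centralizer_eq D.eichSub_comm (D.eichSub_not_cyclic Y hpF)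
      (D.eichSub_le_normalizer Y a₀) hcop]
    refine iSup_le ?_
    rintro ⟨u, hu, hu1⟩ m ⟨hm, hmu⟩
    rw [Subgroup.mem_centralizer_iff]
    obtain ⟨huH, s, hs1, hs2, hs3⟩ := hu
    have hs0 : s ≠ 0 := fun h => hu1 (D.ext_lin fun a b => by rw [hs3, h, SymNd.eich_zero]; rfl)
    obtain ⟨k0, -, hk0, hk0x⟩ := D.eichB hz hs1
    have huk : u = k0 := D.ext_lin fun a b => by rw [hs3, hk0]
    subst huk
    have hmc : ∀ x, m (u x) = u (m x) := fun x =>
      (LinearEquiv.congr_fun (Subgroup.mem_centralizer_singleton_iff.1 hmu) x)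
    have hpen := D.pen_of_comm hz Y.ze hs1 hs2 (D.aniso_mid Y hs1 hs2 hs0) hk0x hmc
    obtain ⟨hpeni, hperp⟩ := D.perp_of_pen hz0 hm.1 hpen
    obtain ⟨-, hperpi⟩ := D.perp_of_pen hz0 (inv_mem hm.1) hpeni
    intro k' hk'
    obtain ⟨hk'H, t, ht1, ht2, ht3⟩ := hk'
    obtain ⟨k0', -, hk0', hk0'x⟩ := D.eichB hz ht1
    have huk' : k' = k0' := D.ext_lin fun a b => by rw [ht3, hk0']
    subst huk'
    have hpz : ∀ a, k' (T.tau a z) = T.tau a z := fun a => by rw [ht3, D.eich_self hz ht1]
    have hpzi : ∀ a, k'⁻¹ (T.tau a z) = T.tau a z := fun a => k'.injective (by rw [ap_inv, hpz])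
    have hperpk : ∀ x, T.C z x = 0 → k' x = x - T.tau (T.C t x) z := fun x hx => by
      rw [hk0'x, hx]; simp
    set c := m * k' * m⁻¹ * k'⁻¹ with hcdef
    have hcN : c ∈ fixA T H a₀ := by
      have := mul_mem hm (D.fixA_conj hz ht1 hk'H ht3 (inv_mem hm))
      rwa [show m * (k' * m⁻¹ * k'⁻¹) = c by rw [hcdef]; group] at this
    have hcS : RS T z c := by
      refine ⟨fun a => ?_, fun x hx => ?_⟩
      · show m (k' (m⁻¹ (k'⁻¹ (T.tau a z)))) = _
        obtain ⟨a', ha'⟩ := hpeni a
        rw [hpzi, ha', hpz, ← ha', ap_inv]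
      · obtain ⟨y, rfl⟩ : ∃ y, k' (m y) = x := ⟨m⁻¹ (k'⁻¹ x), by rw [ap_inv, ap_inv]⟩
        have hy : T.C z y = 0 := by
          have h1 : T.C z (m y) = 0 := by
            rw [hk0'x] at hx
            simpa [D.C_tau, hz, ht1] using hx
          have := hperpi _ h1
          rwa [inv_ap] at this
        show ∃ a, m (k' (m⁻¹ (k'⁻¹ (k' (m y))))) = _
        rw [inv_ap, inv_ap, hperpk y hy, hperpk _ (hperp y hy), map_sub]
        obtain ⟨a', ha'⟩ := hpen (T.C t y)
        rw [ha']
        exact ⟨T.C t (m y) - a', by simp⟩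
    have hc1 : c = 1 := D.rs_trivial hno Y hcN.1 hcS ha0 hcN.2
    calc k' * m = 1 * (k' * m) := (one_mul _).symm
      _ = c * (k' * m) := by rw [hc1]
      _ = m * k' := by rw [hcdef]; group
  exact (Subgroup.mem_centralizer_iff.1 (hle hn) k hkU).symm

end WData

end CfsgLib.MaxSub.TWr
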