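import Cfsg.Agent.Lib.MaxSub.TWr.Abstract

/-!
The tensor-wreath subgroups of degree nine in coordinates: their members act on pure tensors factorwise, or
exchanging the factors.
-/

set_option autoImplicit false
set_option linter.unusedSectionVars false
set_option linter.unusedSimpArgs false
set_option linter.style.haveILetI false
set_option maxHeartbeats 1000000

namespace CfsgLib.MaxSub.TWr

open Matrix
open CfsgLib.MaxSub
open scoped MatrixGroups Kronecker
open CfsgLib.Classical (glLin glLin_apply)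
open QuadraticMap (polar)

variable {F : Type*} [Field F] {ι : Type} [Fintype ι] [DecidableEq ι]

/-- pairs of indices for the tensor square -/
def e2 (e : ι ≃ (Fin 2 → Fin 3)) : ι ≃ Fin 3 × Fin 3 := e.trans (finTwoArrowEquiv (Fin 3))

/-- pure or exchanging, on the pure tensors -/
def WAct (e : ι ≃ (Fin 2 → Fin 3)) (P g : GL ι F) : Prop :=
  (∃ (Mf : (Fin 3 → F) →ₗ[F] (Fin 3 → F)) (hf : (Fin 3 → F) →ₗ[F] (Fin 3 → F)),
      ∀ a b, glLin g (TensorFrame.pure (e2 e) P a b) = TensorFrame.pure (e2 e) P (Mf a) (hf b)) ∨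
    ∃ (Mf : (Fin 3 → F) →ₗ[F] (Fin 3 → F)) (hf : (Fin 3 → F) →ₗ[F] (Fin 3 → F)),
      ∀ a b, glLin g (TensorFrame.pure (e2 e) P a b) = TensorFrame.pure (e2 e) P (hf b) (Mf a)

/-- transport of the standard group -/
def trHom (e : ι ≃ (Fin 2 → Fin 3)) (P : GL ι F) : GL (Fin 2 → Fin 3) F →* GL ι F :=
  (MulAut.conj P).toMonoidHom.comp (Cfsg.Geo.glReindex e.symm).toMonoidHom

theorem trHom_apply (e : ι ≃ (Fin 2 → Fin 3)) (P : GL ι F) (k : GL (Fin 2 → Fin 3) F) (x y : Fin 3 → F) :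
    glLin (trHom e P k) (TensorFrame.pure (e2 e) P x y) =
      (P : Matrix ι ι F) *ᵥ (((k : Matrix (Fin 2 → Fin 3) (Fin 2 → Fin 3) F) *ᵥ
        fun q => x (q 0) * y (q 1)) ∘ e) := by
  rw [glLin_apply, TensorFrame.pure_def]
  show ((P : Matrix ι ι F) * Matrix.reindex e.symm e.symm (k : Matrix _ _ F) * ((P⁻¹ : GL ι F) : Matrix ι ι F)) *ᵥ _ = _
  rw [Matrix.mulVec_mulVec, Matrix.mul_assoc, ← Units.val_mul, inv_mul_cancel, Units.val_one, mul_one,
    ← Matrix.mulVec_mulVec]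
  congr 1
  funext i
  simp only [Matrix.mulVec, dotProduct, Matrix.reindex_apply, Matrix.submatrix_apply, Equiv.symm_symm,
    Function.comp_apply]
  exact Equiv.sum_comp e (fun q : Fin 2 → Fin 3 =>
    (k : Matrix (Fin 2 → Fin 3) (Fin 2 → Fin 3) F) (e i) q * (x (q 0) * y (q 1)))

theorem wact_mul {e : ι ≃ (Fin 2 → Fin 3)} {P g g' : GL ι F} (h : WAct e P g) (h' : WAct e P g') :
    WAct e P (g * g') := by
  rcases h with ⟨M, f, h⟩ | ⟨M, f, h⟩ <;> rcases h' with ⟨M', f', h'⟩ | ⟨M', f', h'⟩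
  · exact Or.inl ⟨M ∘ₗ M', f ∘ₗ f', fun a b => by simp [map_mul, h, h']⟩
  · exact Or.inr ⟨f ∘ₗ M', M ∘ₗ f', fun a b => by simp [map_mul, h, h']⟩
  · exact Or.inr ⟨M ∘ₗ M', f ∘ₗ f', fun a b => by simp [map_mul, h, h']⟩
  · exact Or.inl ⟨f ∘ₗ M', M ∘ₗ f', fun a b => by simp [map_mul, h, h']⟩

theorem wact_one {e : ι ≃ (Fin 2 → Fin 3)} {P : GL ι F} : WAct e P 1 :=
  Or.inl ⟨LinearMap.id, LinearMap.id, fun a b => by simp⟩

theorem perm_two : ∀ σ : Equiv.Perm (Fin 2), σ = 1 ∨ σ = Equiv.swap 0 1 := by decide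

theorem wact_of_mem [Finite F] {e : ι ≃ (Fin 2 → Fin 3)} {P g : GL ι F}
    (hg : g ∈ Cfsg.Geo.tensorWreathSubgroup 3 2 e P) : WAct e P g := by
  obtain ⟨_, ⟨k, hk, rfl⟩, rfl⟩ := hg
  show WAct e P (trHom e P k)
  have hk' : k ∈ Submonoid.closure {g : GL (Fin 2 → Fin 3) F |
      Cfsg.Geo.IsPureTensor 3 2 g ∨ Cfsg.Geo.IsFactorPermutation 3 2 g} := by
    rw [← Subgroup.closure_toSubmonoid_of_finite]; exact hk
  clear hk
  induction hk' using Submonoid.closure_induction with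
  | mem k hk =>
      rcases hk with ⟨gs, h⟩ | ⟨σ, h⟩
      · refine Or.inl ⟨(gs 0 : Matrix (Fin 3) (Fin 3) F).mulVecLin, (gs 1 : Matrix (Fin 3) (Fin 3) F).mulVecLin,
          fun a b => ?_⟩
        rw [trHom_apply, TensorFrame.pure_def]
        congr 1
        funext i
        simp only [Matrix.mulVecLin_apply, Matrix.mulVec, dotProduct, Function.comp_apply, h,
          Fin.prod_univ_two]
        rw [Finset.sum_mul_sum, ← Fintype.sum_prod_type']
        exact Fintype.sum_equiv (finTwoArrowEquiv (Fin 3)) _ _ fun q => by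
          simp [e2, finTwoArrowEquiv]; ring
      · have hz : ∀ (a b : Fin 3 → F) (i : Fin 2 → Fin 3), ((k : Matrix (Fin 2 → Fin 3) (Fin 2 → Fin 3) F) *ᵥ fun q => a (q 0) * b (q 1)) i =
            a (i (σ 0)) * b (i (σ 1)) := fun a b i => by
          simp [Matrix.mulVec, dotProduct, h, ite_mul]
        rcases perm_two σ with rfl | rfl
        · refine Or.inl ⟨LinearMap.id, LinearMap.id, fun a b => ?_⟩
          rw [trHom_apply, TensorFrame.pure_def]
          congr 1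
          funext i
          simp [hz, e2, finTwoArrowEquiv]
        · refine Or.inr ⟨LinearMap.id, LinearMap.id, fun a b => ?_⟩
          rw [trHom_apply, TensorFrame.pure_def]
          congr 1
          funext i
          simp [hz, e2, finTwoArrowEquiv, mul_comm]
  | one => rw [map_one]; exact wact_one
  | mul k k' _ _ hk hk' => rw [map_mul]; exact wact_mul hk hk'

theorem mem_of_pure [Fintype F] {e : ι ≃ (Fin 2 → Fin 3)} {P g : GL ι F}
    (hg : g ∈ Cfsg.Geo.tensorProductSubgroup 3 3 (e2 e) P) : g ∈ Cfsg.Geo.tensorWreathSubgroup 3 2 e P := by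
  obtain ⟨_, ⟨k, ⟨a, b, hk⟩, rfl⟩, rfl⟩ := hg
  refine ⟨_, ⟨Cfsg.Geo.glReindex (finTwoArrowEquiv (Fin 3)).symm k, Subgroup.subset_closure
    (Or.inl ⟨![a, b], fun x y => ?_⟩), rfl⟩, ?_⟩
  · show (k : Matrix (Fin 3 × Fin 3) (Fin 3 × Fin 3) F) (finTwoArrowEquiv (Fin 3) x)
      (finTwoArrowEquiv (Fin 3) y) = _
    rw [hk]
    simp [Fin.prod_univ_two, finTwoArrowEquiv]
  · show MulAut.conj P _ = MulAut.conj P _
    congr 1

theorem mem_iff [Fintype F] (e : ι ≃ (Fin 2 → Fin 3)) (P g : GL ι F) :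
    g ∈ Cfsg.Geo.tensorWreathSubgroup 3 2 e P ↔ WAct e P g := by
  refine ⟨wact_of_mem, fun h => ?_⟩
  have pureMem : ∀ g : GL ι F, (∃ (Mf : (Fin 3 → F) →ₗ[F] (Fin 3 → F)) (hf : (Fin 3 → F) →ₗ[F] (Fin 3 → F)),
      ∀ a b, glLin g (TensorFrame.pure (e2 e) P a b) = TensorFrame.pure (e2 e) P (Mf a) (hf b)) →
      g ∈ Cfsg.Geo.tensorWreathSubgroup 3 2 e P := fun g hg =>
    mem_of_pure ((TensorOO.mem_tensor_iff (by norm_num) (by norm_num) (e2 e) P g).2 hg)
  rcases h with h | ⟨M, f, h⟩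
  · exact pureMem g h
  -- compose with the exchange
  let σ : Equiv.Perm (Fin 2) := Equiv.swap 0 1
  let π : Equiv.Perm (Fin 2 → Fin 3) := Equiv.arrowCongr σ (Equiv.refl _)
  let w : GL (Fin 2 → Fin 3) F :=
    ⟨π.permMatrix F, (π⁻¹ : Equiv.Perm (Fin 2 → Fin 3)).permMatrix F, by
      rw [← Matrix.permMatrix_mul]; simp, by
      rw [← Matrix.permMatrix_mul]; simp⟩
  have hw : Cfsg.Geo.IsFactorPermutation 3 2 w := ⟨σ, fun x y => by
    show π.permMatrix F x y = _
    have : π x = x ∘ σ := by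
      funext i; simp [π, σ]
    rw [Equiv.Perm.permMatrix, PEquiv.toMatrix_apply]
    simp [this, eq_comm]⟩
  have hwm : trHom e P w ∈ Cfsg.Geo.tensorWreathSubgroup 3 2 e P :=
    ⟨_, ⟨w, Subgroup.subset_closure (Or.inr hw), rfl⟩, rfl⟩
  have hwa : ∀ a b, glLin (trHom e P w) (TensorFrame.pure (e2 e) P a b) = TensorFrame.pure (e2 e) P b a := by
    intro a b
    rw [trHom_apply, TensorFrame.pure_def]
    congr 1
    funext i
    have hz : ∀ i, ((w : Matrix (Fin 2 → Fin 3) (Fin 2 → Fin 3) F) *ᵥ fun q => a (q 0) * b (q 1)) i =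
        a (π i 0) * b (π i 1) := fun i => by
      show (π.permMatrix F *ᵥ fun q => a (q 0) * b (q 1)) i = _
      rw [Matrix.permMatrix_mulVec]; rfl
    simp [hz, π, σ, e2, finTwoArrowEquiv, mul_comm]
  have hgw := pureMem (g * trHom e P w) ⟨f, M, fun a b => by
    show glLin (g * trHom e P w) _ = _
    rw [map_mul, LinearEquiv.mul_apply, hwa, h]⟩
  have := mul_mem hgw (inv_mem hwm)
  rwa [mul_inv_cancel_right] at this

variable [Fintype F]

/-- the stabiliser of a decomposition as a tensor square of a three-space is maximal in `Ω9` -/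
theorem tensor_wreath_nine (Qf : QuadraticForm F (ι → F)) (hsep : ∀ x, (∀ y, polar Qf x y = 0) → x = 0)
    (hodd : Odd (Fintype.card F)) (hq : 5 ≤ Fintype.card F) (e : ι ≃ (Fin 2 → Fin 3)) (P : GL ι F)
    {f₁ : (Fin 3 → F) → (Fin 3 → F) → F} (hf₁ : Cfsg.Geo.IsSymmetricForm f₁)
    (hT : Cfsg.Geo.IsTensorPowerFormStructure id (polar Qf) f₁ e P) :
    Cfsg.Geo.IsMaximalIn (Cfsg.Geo.omegaGL (⇑Qf))
      (Cfsg.Geo.tensorWreathSubgroup 3 2 e P ⊓ Cfsg.Geo.omegaGL (⇑Qf)) := by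
  have h2 := CfsgLib.Classical.two_ne_zero_of_odd (F := F) hodd
  have gram : ∀ x y, Cfsg.Geo.formOfGram id (Cfsg.Geo.gramMatrix f₁) x y = f₁ x y :=
    TensorFrame.formOfGram_gram _ f₁ hf₁.bilinear.add_left hf₁.bilinear.smul_left hf₁.bilinear.add_right
      hf₁.bilinear.smul_right
  have hT' : Cfsg.Geo.IsTensorFormStructure id (polar Qf) f₁ f₁ (e2 e) P := by
    obtain ⟨c, hc, h⟩ := hT
    refine ⟨c, hc, fun x y => ?_⟩
    have h' := h (x ∘ finTwoArrowEquiv (Fin 3)) (y ∘ finTwoArrowEquiv (Fin 3))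
    refine h'.trans ?_
    congr 1
    unfold Cfsg.Geo.formOfGram
    refine Fintype.sum_equiv (finTwoArrowEquiv (Fin 3)) _ _ fun p => ?_
    refine Fintype.sum_equiv (finTwoArrowEquiv (Fin 3)) _ _ fun q => ?_
    simp [Matrix.kroneckerMap_apply, Fin.prod_univ_two, finTwoArrowEquiv]
  obtain ⟨c, hc0, hform⟩ := TensorFrame.form_pure (fun _ _ => rfl) hT' gram gram
  have hcard : Fintype.card ι = 9 := by simpa using Fintype.card_congr (e2 e)
  refine abstract_maximal Qf hsep (by omega) _ (TensorFrame.pure (e2 e) P) (mem_iff e P)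
    (fA := c • TensorOO.toBilin hf₁) (fB := (1 : F) • TensorOO.toBilin hf₁)
    (TensorOO.symNd_toBilin hf₁ h2 hc0) (TensorOO.symNd_toBilin hf₁ h2 one_ne_zero) (TensorSS.span_pure _ P)
    (fun a b a' b' => by
      rw [hform]; show _ = c * f₁ a a' * (1 * f₁ b b'); ring)
    (TensorFrame.pure_contract _ P) ?_ (Module.finrank_fin_fun F) (Module.finrank_fin_fun F)
    (TensorOO.exists_big hodd (by omega))
  intro φ
  obtain ⟨C, hC⟩ := TensorFrame.pure_contract' (e2 e) P φ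
  exact ⟨C, fun a b => hC b a⟩

end CfsgLib.MaxSub.TWr
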