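import Cfsg.Agent.Lib.MaxSub.TWr.Kron

/-!
`O3 ⊗ O3` with the exchange of the factors: the pure and exchanging elements are closed under products and
inverses, and the relations between commuting axial involutions.
-/

set_option autoImplicit false
set_option linter.unusedSectionVars false
set_option linter.unusedSimpArgs false
set_option linter.unusedVariables false
set_option linter.style.haveILetI false
set_option maxHeartbeats 1000000

namespace CfsgLib.MaxSub.TWr

open Module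
open CfsgLib.MaxSub.TForm

variable {F A B V : Type*} [Field F] [AddCommGroup A] [Module F A] [AddCommGroup B] [Module F B]
  [AddCommGroup V] [Module F V]

theorem refl_comm {M : Type*} [AddCommGroup M] [Module F M] {f : M →ₗ[F] M →ₗ[F] F} (hS : SymNd f)
    {a p : M} (h : f a p = 0) (x : M) : refl f a (refl f p x) = refl f p (refl f a x) := by
  simp only [refl_apply, map_sub, map_smul, smul_eq_mul, h, hS.symm a p, mul_zero]
  module

namespace WData

variable {T : Sys F A B V (RingHom.id F)} {H : Subgroup (V ≃ₗ[F] V)}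
variable [Finite F] [FiniteDimensional F A] [FiniteDimensional F B] [FiniteDimensional F V]

theorem kron_mul_swap (D : WData T H) {g g' : V ≃ₗ[F] V} (h : IsKron T g) (h' : Swap T g') :
    Swap T (g * g' : V ≃ₗ[F] V) := by
  obtain ⟨M, f, hf⟩ := h
  obtain ⟨M', f', hf'⟩ := h'
  exact ⟨f ∘ₗ M', M ∘ₗ f', fun a b => by simp [LinearEquiv.mul_apply, hf, hf']⟩

theorem swap_mul_swap (D : WData T H) {g g' : V ≃ₗ[F] V} (h : Swap T g) (h' : Swap T g') :
    IsKron T (g * g' : V ≃ₗ[F] V) := by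
  obtain ⟨M, f, hf⟩ := h
  obtain ⟨M', f', hf'⟩ := h'
  exact ⟨f ∘ₗ M', M ∘ₗ f', fun a b => by simp [LinearEquiv.mul_apply, hf, hf']⟩

theorem swap_inv (D : WData T H) {g : V ≃ₗ[F] V} (h : Swap T g) : Swap T (g⁻¹ : V ≃ₗ[F] V) := by
  obtain ⟨M, f, hf⟩ := h
  obtain ⟨a₀, ha₀⟩ := D.symA.exists_fr D.dimA
  obtain ⟨l₀, hl₀⟩ := D.symB.exists_fr D.dimB
  have hMi : Function.Injective M := (injective_iff_map_eq_zero M).2 fun x hx => by
    have h1 : g (T.tau x (l₀ 0)) = 0 := by rw [hf, hx, map_zero]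
    rw [LinearEquiv.map_eq_zero_iff] at h1
    exact D.tau_left_inj (fun h => hl₀.aniso 0 (by simp [h]))
      (h1.trans (by simp : (0 : V) = T.tau (0 : A) (l₀ 0)))
  have hfi : Function.Injective f := (injective_iff_map_eq_zero f).2 fun b hb => by
    have h1 : g (T.tau (a₀ 0) b) = 0 := by rw [hf, hb, map_zero, LinearMap.zero_apply]
    rw [LinearEquiv.map_eq_zero_iff, ← map_zero (T.tau (a₀ 0))] at h1
    exact D.tau_right_inj (fun h => ha₀.aniso 0 (by simp [h])) h1
  let eM := LinearMap.linearEquivOfInjective M hMi (D.dimA.trans D.dimB.symm)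
  let ef := LinearMap.linearEquivOfInjective f hfi (D.dimB.trans D.dimA.symm)
  refine ⟨ef.symm.toLinearMap, eM.symm.toLinearMap, fun x y => g.injective ?_⟩
  rw [ap_inv, hf]
  show T.tau x y = T.tau (ef (ef.symm x)) (eM (eM.symm y))
  rw [LinearEquiv.apply_symm_apply, LinearEquiv.apply_symm_apply]

theorem gd_inv (D : WData T H) {g : V ≃ₗ[F] V} (h : Gd T g) : Gd T (g⁻¹ : V ≃ₗ[F] V) :=
  h.imp D.kron_inv D.swap_inv

/-- conjugates of pure elements by pure or exchanging ones are pure -/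
theorem kron_conj (D : WData T H) {g z : V ≃ₗ[F] V} (h : Gd T g) (hz : IsKron T z) :
    IsKron T (g * z * g⁻¹ : V ≃ₗ[F] V) := by
  rcases h with h | h
  · exact D.kron_mul (D.kron_mul h hz) (D.kron_inv h)
  · exact D.swap_mul_swap (D.swap_mul_kron h hz) (D.swap_inv h)

theorem ax_unique (D : WData T H) {k : V ≃ₗ[F] V} {p p' : A} (h : IsAx T k p) (h' : IsAx T k p') (x : A) :
    refl T.fA p x = refl T.fA p' x := by
  obtain ⟨l, hl⟩ := D.symB.exists_fr D.dimB
  exact D.tau_left_inj (fun e => hl.aniso 0 (by simp [e]) : l 0 ≠ 0) (by rw [← h, ← h'])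

/-- two commuting distinct axial involutions have orthogonal axes -/
theorem ax_comm (D : WData T H) {z w : V ≃ₗ[F] V} {a p : A} (ha : T.fA a a ≠ 0) (hp : T.fA p p ≠ 0)
    (hz : IsAx T z a) (hw : IsAx T w p) (hc : z * w = w * z) (hne : w ≠ z) : T.fA a p = 0 := by
  have h : IsAx T (z * w * z) (refl T.fA a p) := fun x b => by
    rw [LinearEquiv.mul_apply, LinearEquiv.mul_apply, hz, hw, hz, refl_conj D.symA ha]
  rw [hc, mul_assoc, D.ax_sq ha hz, mul_one] at h
  rcases comm_refl D.symA ha hp (D.ax_unique h hw) with ⟨c, hc', rfl⟩ | h0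
  · exact absurd (D.ext_lin fun x b => by rw [hw, hz, refl_smul hc']) hne
  · exact h0

/-- the product of two axial involutions with orthogonal axes -/
theorem ax_mul (D : WData T H) {z w : V ≃ₗ[F] V} {a p : A} (ha : T.fA a a ≠ 0) (hp : T.fA p p ≠ 0)
    (h : T.fA a p = 0) (hz : IsAx T z a) (hw : IsAx T w p) :
    ∃ r, T.fA r r ≠ 0 ∧ IsAx T (z * w) r := by
  obtain ⟨r, hfr⟩ := exists_fr_pair D.symA D.dimA ha hp h
  refine ⟨r, by simpa using hfr.aniso 2, fun x b => ?_⟩
  rw [LinearEquiv.mul_apply, hw, hz]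
  congr 2
  simpa using refl_mul D.symA D.dimA hfr (i := 0) (j := 1) (k := 2) (by decide) (by decide) (by decide) x

/-- the axes of a product commuting with an axial involution -/
theorem p_ax_comm (D : WData T H) {z w : V ≃ₗ[F] V} {a p : A} {q : B} (ha : T.fA a a ≠ 0)
    (hp : T.fA p p ≠ 0) (hq : T.fB q q ≠ 0) (hz : IsAx T z a) (hw : IsP T w p q) (hc : z * w = w * z) :
    (∃ c : F, c ≠ 0 ∧ p = c • a) ∨ T.fA a p = 0 := by
  have h : IsP T (z * w * z) (refl T.fA a p) q := fun x b => by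
    rw [LinearEquiv.mul_apply, LinearEquiv.mul_apply, hz, hw, hz, refl_conj D.symA ha]
  rw [hc, mul_assoc, D.ax_sq ha hz, mul_one] at h
  exact comm_refl D.symA ha hp (D.p_unique (by rwa [refl_isom D.symA ha]) hp hq hq h hw).1

/-- the product of an axial involution and a product of axes -/
theorem ax_mul_p (D : WData T H) {z w : V ≃ₗ[F] V} {a p : A} {q : B} (ha : T.fA a a ≠ 0)
    (hp : T.fA p p ≠ 0) (h : T.fA a p = 0) (hz : IsAx T z a) (hw : IsP T w p q) :
    ∃ r, T.fA r r ≠ 0 ∧ T.fA a r = 0 ∧ IsP T (z * w) r q := by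
  obtain ⟨r, hfr⟩ := exists_fr_pair D.symA D.dimA ha hp h
  refine ⟨r, by simpa using hfr.aniso 2, by simpa using hfr.orth 0 2 (by decide), fun x b => ?_⟩
  rw [LinearEquiv.mul_apply, hw, hz]
  congr 2
  simpa using refl_mul D.symA D.dimA hfr (i := 0) (j := 1) (k := 2) (by decide) (by decide) (by decide) x

/-- pulling back an axis commuting with the image of a product of axes -/
theorem gd_of_pull (D : WData T H) (hno : NoFrame T H) (hno' : NoFrame (flipSys T) H) {g x z : V ≃ₗ[F] V}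
    {a₀ r p : A} {l₀ q : B} (ha₀ : T.fA a₀ a₀ ≠ 0) (hl₀ : T.fB l₀ l₀ ≠ 0) (hx : IsP T x a₀ l₀)
    (hg : g ∈ H) (hr : T.fA r r ≠ 0) (hp : T.fA p p ≠ 0) (hq : T.fB q q ≠ 0) (hrp : T.fA r p = 0)
    (hzH : z ∈ H) (hz : IsAx T z r) (hs : IsP T (g * x * g⁻¹) p q)
    (hcent : ∀ n ∈ H, n * x = x * n → Gd T n) : Gd T g := by
  obtain ⟨r', hr', -, hzs⟩ := D.ax_mul_p hr hp hrp hz hs
  have hcz : z * (g * x * g⁻¹) = g * x * g⁻¹ * z := D.ext_lin fun v b => by
    show z ((g * x * g⁻¹) (T.tau v b)) = (g * x * g⁻¹) (z (T.tau v b))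
    rw [hs, hz, hz, hs, refl_comm D.symA hrp]
  set y := g⁻¹ * z * g with hy
  have hyH : y ∈ H := mul_mem (mul_mem (inv_mem hg) hzH) hg
  have hyx : y * x = x * y := by
    calc g⁻¹ * z * g * x = g⁻¹ * (z * (g * x * g⁻¹)) * g := by group
      _ = g⁻¹ * (g * x * g⁻¹ * z) * g := by rw [hcz]
      _ = x * (g⁻¹ * z * g) := by group
  rcases hcent y hyH hyx with hk | hsw
  · have h1 : Gd T (g⁻¹ : V ≃ₗ[F] V) :=
      D.gd_of_conj_ax hno hno' hr hzH hz (inv_mem hg) hyH hk (by rw [hy]; group)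
    have h2 := D.gd_inv h1
    rwa [inv_inv] at h2
  · refine absurd (D.swap_mul_kron hsw (kron_of_isP hx)) (D.not_swap (k := g) ?_ hr' hq hzs ?_)
    · have hyy : y * y = 1 := by
        rw [hy, show g⁻¹ * z * g * (g⁻¹ * z * g) = g⁻¹ * (z * z) * g by group, D.ax_sq hr hz]
        group
      calc y * x * (y * x) = y * (x * y) * x := by group
        _ = y * y * (x * x) := by rw [← hyx]; group
        _ = 1 := by rw [hyy, D.p_sq ha₀ hl₀ hx, mul_one]
    · rw [hy]; group

end WData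

end CfsgLib.MaxSub.TWr
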