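import Cfsg.Agent.Lib.MaxSub.TWr.Comm

/-!
`O3 ⊗ O3` with the exchange of the factors, no Siegel maps at singular pencils: a member mapping an anisotropic
slice of one system onto one of another system on the same space is pure between the two systems.
-/

set_option autoImplicit false
set_option linter.unusedSectionVars false
set_option linter.unusedSimpArgs false
set_option linter.unusedVariables false
set_option linter.style.haveILetI false
set_option maxHeartbeats 1000000

namespace CfsgLib.MaxSub.TWr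

open Module
open CfsgLib.MaxSub.TForm

variable {F A B A' B' V : Type*} [Field F] [AddCommGroup A] [Module F A] [AddCommGroup B] [Module F B]
  [AddCommGroup A'] [Module F A'] [AddCommGroup B'] [Module F B'] [AddCommGroup V] [Module F V]

namespace WData

variable {T : Sys F A B V (RingHom.id F)} {T' : Sys F A' B' V (RingHom.id F)} {H : Subgroup (V ≃ₗ[F] V)}
variable [Finite F] [FiniteDimensional F A] [FiniteDimensional F B] [FiniteDimensional F A']
  [FiniteDimensional F B'] [FiniteDimensional F V]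

/-- a map intertwining the Eichler elements of two systems is pure -/
theorem kron_of_intertwine (D : WData T H) (D' : WData T' H) {g : V ≃ₗ[F] V} {h : B →ₗ[F] B'} {μ : F}
    (hμ : μ ≠ 0) (hh : ∀ b b', T'.fB (h b) (h b') = μ * T.fB b b')
    (hint : ∀ z r, z ≠ 0 → T.fB z z = 0 → T.fB r z = 0 → ∀ k k' : V ≃ₗ[F] V,
      (∀ a b, k (T.tau a b) = T.tau a (eich T.fB z r b)) →
      (∀ a b, k' (T'.tau a b) = T'.tau a (eich T'.fB (h z) (μ⁻¹ • h r) b)) → k ∈ H → k' ∈ H →
      ∀ x, g (k x) = k' (g x)) :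
    ∃ X : A →ₗ[F] A', ∀ a b, g (T.tau a b) = T'.tau (X a) (h b) := by
  obtain ⟨z, e, r, Y⟩ := D.exists_hyp_top
  have h2 := D.symB.two
  have hE : ∀ v r b, eich T'.fB (h v) (μ⁻¹ • h r) (h b) = h (eich T.fB v r b) := fun v r b => by
    simp only [eich_apply, map_add, map_sub, map_smul, LinearMap.smul_apply, smul_eq_mul, hh, ← mul_assoc,
      inv_mul_cancel₀ hμ, one_mul]
    match_scalars <;> field_simp
  have pencil : ∀ z e r, Hyp3 T z e r →
      ∀ a, g (T.tau a z) = T'.tau (T'.C (μ⁻¹ • h e) (g (T.tau a z))) (h z) := by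
    intro z e r Y a
    have hz0 : z ≠ 0 := fun h => by have := Y.ze; rw [h, map_zero] at this; exact zero_ne_one this
    set y := g (T.tau a z) with hy
    have Y' : Hyp3 T' (h z) (μ⁻¹ • h e) (h r) :=
      ⟨by rw [hh, Y.zz, mul_zero], by simp [hh, Y.ee], by simp [hh, Y.ze, hμ], by simp [hh, Y.ez, hμ],
        by rw [hh, Y.rz, mul_zero], by simp [hh, Y.re], by rw [hh]; exact mul_ne_zero hμ Y.rr⟩
    obtain ⟨k, hk, hkab, -⟩ := D.eichB Y.zz Y.rz
    obtain ⟨k', hk', hk'ab, hk'x⟩ := D'.eichB Y'.zz (r := μ⁻¹ • h r) (by simp [hh, Y.rz])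
    have hf := hint z r hz0 Y.zz Y.rz k k' hkab hk'ab hk hk' (T.tau a z)
    rw [hkab, D.eich_self Y.zz Y.rz, ← hy, hk'x] at hf
    have hzr : T'.fB (h z) (h r) = 0 := by rw [hh, D.symB.symm r z, Y.rz, mul_zero]
    have e1 := congrArg (T'.C (h r)) hf
    simp only [map_add, map_sub, D'.C_tau, hzr, zero_smul, sub_zero, map_smul, LinearMap.add_apply,
      LinearMap.smul_apply, smul_zero, add_zero, smul_smul, smul_eq_mul, hh, ← mul_assoc,
      inv_mul_cancel₀ hμ, one_mul, left_eq_add] at e1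
    have hz' := (smul_eq_zero.1 e1).resolve_left Y.rr
    have e2 := congrArg (T'.C (μ⁻¹ • h e)) hf
    rw [hz'] at e2
    simp only [map_add, map_sub, map_zero, map_smul, LinearMap.zero_apply, smul_zero, add_zero, D'.C_tau,
      LinearMap.smul_apply, smul_eq_mul, hh, Y.ze, mul_one, inv_mul_cancel₀ hμ, one_smul, D'.C_smul] at e2
    have hr' : T'.C (h r) y = 0 := (inv_smul_smul₀ hμ _).symm.trans
      ((smul_eq_zero.1 (sub_eq_self.1 e2.symm)).resolve_left (inv_ne_zero hμ))
    have := D'.decomp Y' y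
    rw [hz', hr'] at this
    simpa using this
  let Xz : A →ₗ[F] A' := T'.C (μ⁻¹ • h e) ∘ₗ (g : V →ₗ[F] V) ∘ₗ T.tau.flip z
  let Xe : A →ₗ[F] A' := T'.C (μ⁻¹ • h z) ∘ₗ (g : V →ₗ[F] V) ∘ₗ T.tau.flip e
  have hXz : ∀ a, g (T.tau a z) = T'.tau (Xz a) (h z) := pencil z e r Y
  have hXe : ∀ a, g (T.tau a e) = T'.tau (Xe a) (h e) := pencil e z r (D.hyp_opp Y)
  have hzr : ∀ z e (Y : Hyp3 T z e r) (Xz Xe : A →ₗ[F] A'),
      (∀ a, g (T.tau a z) = T'.tau (Xz a) (h z)) → (∀ a, g (T.tau a e) = T'.tau (Xe a) (h e)) →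
      ∀ a, g (T.tau a r) =
        T'.tau (Xe a) (h r) + T'.tau ((T.fB r r / 2) • (Xz a - Xe a)) (h z) := by
    intro z e Y Xz Xe hXz hXe a
    have hz0 : z ≠ 0 := fun h => by have := Y.ze; rw [h, map_zero] at this; exact zero_ne_one this
    obtain ⟨k, hk, hkab, -⟩ := D.eichB Y.zz Y.rz
    obtain ⟨k', hk', hk'ab, -⟩ := D'.eichB (v := h z) (by rw [hh, Y.zz, mul_zero]) (r := μ⁻¹ • h r)
      (by simp [hh, Y.rz])
    have hf := hint z r hz0 Y.zz Y.rz k k' hkab hk'ab hk hk' (T.tau a e)
    rw [hkab, hXe, hk'ab, hE, eich_apply, Y.ez, D.symB.symm r e, Y.re, zero_add, one_smul, mul_one] at hf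
    simp only [map_add, map_sub, map_smul, LinearMap.add_apply, LinearMap.sub_apply, LinearMap.smul_apply,
      hXe, hXz] at hf
    simp only [map_sub, map_smul, LinearMap.sub_apply, LinearMap.smul_apply]
    linear_combination (norm := module) hf
  have hX : ∀ a, Xz a = Xe a := fun a => by
    have e1 := hzr z e Y Xz Xe hXz hXe a
    have e2 := hzr e z (D.hyp_opp Y) Xe Xz hXe hXz a
    rw [e1] at e2
    have e3 := congrArg (T'.C (h r)) e2
    simp only [map_add, D'.C_tau, hh, D.symB.symm r z, Y.rz, D.symB.symm r e, Y.re, mul_zero, zero_smul,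
      add_zero] at e3
    exact (smul_right_injective A' (mul_ne_zero hμ Y.rr) e3).symm
  refine ⟨Xz, fun a b => ?_⟩
  have hb : b ∈ Submodule.span F (Set.range ![z, e, r]) := by rw [D.span_hyp Y]; trivial
  induction hb using Submodule.span_induction with
  | mem b hb =>
      obtain ⟨i, rfl⟩ := hb
      have e1 := hzr z e Y Xz Xe hXz hXe a
      rw [hX a, sub_self, smul_zero, map_zero, LinearMap.zero_apply, add_zero] at e1
      fin_cases i
      · exact hXz a
      · rw [hX]; exact hXe a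
      · rw [hX]; exact e1
  | zero => simp
  | add p q _ _ hp hq => simp [map_add, hp, hq]
  | smul c p _ hp => simp [map_smul, hp]

/-- an element mapping an anisotropic slice into another is pure -/
theorem kron_of_slice (D : WData T H) (D' : WData T' H) (hform : T.form = T'.form)
    (hno : NoFrame T' H) {g : V ≃ₗ[F] V} (hg : g ∈ H)
    {a : A} {a' : A'} (ha : T.fA a a ≠ 0) (ha' : T'.fA a' a' ≠ 0)
    (hmap : ∀ b, ∃ b', g (T.tau a b) = T'.tau a' b') :
    ∃ (X : A →ₗ[F] A') (h : B →ₗ[F] B'), ∀ x b, g (T.tau x b) = T'.tau (X x) (h b) := by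
  classical
  haveI : Finite V := Module.finite_of_finite F
  haveI : Finite (V ≃ₗ[F] V) := Finite.of_injective _ DFunLike.coe_injective
  obtain ⟨p, hp⟩ := CharP.exists F
  haveI := hp
  haveI : Fact p.Prime := ⟨CharP.char_is_prime F p⟩
  have ha0 : a ≠ 0 := fun h => ha (by simp [h])
  let h : B →ₗ[F] B' := (T'.fA a' a')⁻¹ • (T'.C' a' ∘ₗ (g : V →ₗ[F] V) ∘ₗ T.tau a)
  have hgab : ∀ b, g (T.tau a b) = T'.tau a' (h b) := fun b => by
    obtain ⟨b', hb'⟩ := hmap b
    have : h b = b' := by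
      show (T'.fA a' a')⁻¹ • T'.C' a' (g (T.tau a b)) = b'
      rw [hb', D'.C'_tau, inv_smul_smul₀ ha']
    rw [this, hb']
  set μ := T.fA a a / T'.fA a' a' with hμdef
  have hμ : μ ≠ 0 := div_ne_zero ha ha'
  have hh : ∀ b b', T'.fB (h b) (h b') = μ * T.fB b b' := fun b b' => by
    have h1 := D.isom g hg (T.tau a b) (T.tau a b')
    rw [D.form_tau, hgab, hgab] at h1
    rw [hμdef, div_mul_eq_mul_div, eq_div_iff ha', ← h1]
    have h2 := D'.form_tau a' (h b) a' (h b')
    rw [hform, h2, mul_comm]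
  have hinj : Function.Injective h := fun b b' e => D.tau_right_inj ha0 (g.injective (by
    rw [hgab, hgab, e]))
  have hsurj : Function.Surjective h := by
    refine (LinearMap.injective_iff_surjective_of_finrank_eq_finrank ?_).1 hinj
    rw [D.dimB, D'.dimB]
  obtain ⟨X, hX⟩ := D.kron_of_intertwine D' hμ hh fun z r hz0 hz hr k k' hkab hk'ab hk hk' => by
    have hhz0 : h z ≠ 0 := fun e => hz0 (hinj (e.trans h.map_zero.symm))
    have hhz : T'.fB (h z) (h z) = 0 := by rw [hh, hz, mul_zero]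
    have hhr : T'.fB (μ⁻¹ • h r) (h z) = 0 := by simp [hh, hr]
    have h2 := D.symB.two
    have hE : ∀ b, eich T'.fB (h z) (μ⁻¹ • h r) (h b) = h (eich T.fB z r b) := fun b => by
      simp only [eich_apply, map_add, map_sub, map_smul, LinearMap.smul_apply, smul_eq_mul, hh, ← mul_assoc,
        inv_mul_cancel₀ hμ, one_mul]
      match_scalars <;> field_simp
    set w := g * k * g⁻¹ with hw
    have hwa : ∀ b, w (T'.tau a' (h b)) = k' (T'.tau a' (h b)) := fun b => by
      show g (k (g⁻¹ _)) = _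
      rw [← hgab, inv_ap, hkab, hgab, hgab, hk'ab, hE]
    set n := k'⁻¹ * w with hn
    have hnN : n ∈ fixA T' H a' := ⟨mul_mem (inv_mem hk') (mul_mem (mul_mem hg hk) (inv_mem hg)), fun b => by
      obtain ⟨b, rfl⟩ := hsurj b
      show k'⁻¹ (w _) = _
      rw [hwa, inv_ap]⟩
    have hcomm : Commute k' n := (D'.fix_comm hno ha' hnN hhz0 hhz hhr hk' hk'ab).symm
    have hwn : w = k' * n := by rw [hn, mul_inv_cancel_left]
    have hwp : w ^ p = 1 := by rw [hw, conj_pow, D.eich_pow_char hz hr hkab p, mul_one, mul_inv_cancel]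
    have hnp : n ^ p = 1 := by
      have h1 := hwp
      rwa [hwn, hcomm.mul_pow, D'.eich_pow_char hhz hhr hk'ab p, one_mul] at h1
    have hn1 : n = 1 := by
      by_contra hne
      have ho : orderOf (⟨n, hnN⟩ : fixA T' H a') = p :=
        orderOf_eq_prime (Subtype.ext (by rw [SubmonoidClass.coe_pow, hnp]; rfl))
          fun e => hne (congrArg Subtype.val e)
      exact D'.fix_not_dvd hno ha' p (ho ▸ orderOf_dvd_natCard _)
    intro x
    have h1 : w = k' := by rw [hwn, hn1, mul_one]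
    have h2' := LinearEquiv.congr_fun h1 (g x)
    change g (k (g⁻¹ (g x))) = k' (g x) at h2'
    rwa [inv_ap] at h2'
  exact ⟨X, h, hX⟩

end WData

end CfsgLib.MaxSub.TWr
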