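import Cfsg.Agent.Lib.MaxSub.TWr.Intertwine

/-!
`O3 ⊗ O3` with the exchange of the factors: frames, axial involutions and elements acting by signs on the
product of two orthogonal frames.
-/

set_option autoImplicit false
set_option linter.unusedSectionVars false
set_option linter.unusedSimpArgs false
set_option linter.unusedVariables false
set_option linter.style.haveILetI false
set_option maxHeartbeats 1000000

namespace CfsgLib.MaxSub.TWr

open Module
open CfsgLib.MaxSub.TForm

variable {F A B V : Type*} [Field F] [AddCommGroup A] [Module F A] [AddCommGroup B] [Module F B]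
  [AddCommGroup V] [Module F V]

/-- the vectors of a product frame -/
def pv (T : Sys F A B V (RingHom.id F)) (a : Fin 3 → A) (l : Fin 3 → B) (p : Fin 3 × Fin 3) : V :=
  T.tau (a p.1) (l p.2)

/-- acting by signs on a product frame -/
def Dg (T : Sys F A B V (RingHom.id F)) (a : Fin 3 → A) (l : Fin 3 → B) (S : Fin 3 → Fin 3 → Bool)
    (g : V ≃ₗ[F] V) : Prop :=
  ∀ i k, g (T.tau (a i) (l k)) = sgn F (S i k) • T.tau (a i) (l k)

/-- the axial involution `refl a ⊗ 1` -/
def IsAx (T : Sys F A B V (RingHom.id F)) (g : V ≃ₗ[F] V) (a : A) : Prop :=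
  ∀ x b, g (T.tau x b) = T.tau (refl T.fA a x) b

/-- the product of two axial involutions of the two factors -/
def IsP (T : Sys F A B V (RingHom.id F)) (g : V ≃ₗ[F] V) (a : A) (b : B) : Prop :=
  ∀ x y, g (T.tau x y) = T.tau (refl T.fA a x) (refl T.fB b y)

section Frames

variable {M : Type*} [AddCommGroup M] [Module F M] [FiniteDimensional F M] {f : M →ₗ[F] M →ₗ[F] F}

/-- the expansion in an orthogonal frame -/
theorem fr_expand {n : ℕ} (hn : finrank F M = n) {a : Fin n → M} (h : IsFr f a) (x : M) :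
    x = ∑ i, (f x (a i) / f (a i) (a i)) • a i := by
  classical
  have hx : x ∈ Submodule.span F (Set.range a) := by rw [h.span_eq_top hn]; trivial
  induction hx using Submodule.span_induction with
  | mem y hy =>
      obtain ⟨j, rfl⟩ := hy
      rw [Finset.sum_eq_single j (fun i _ hi => by rw [h.orth j i hi.symm, zero_div, zero_smul]) (by simp),
        div_self (h.aniso j), one_smul]
  | zero => simp
  | add p q _ _ hp hq =>
      conv_lhs => rw [hp, hq]
      simp [add_div, add_smul, Finset.sum_add_distrib]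
  | smul c p _ hp =>
      conv_lhs => rw [hp]
      simp [Finset.smul_sum, smul_smul, mul_div_assoc]

/-- the axial involution is an involution -/
theorem refl_refl {a : M} (ha : f a a ≠ 0) (x : M) : refl f a (refl f a x) = x := by
  simp only [refl_apply, map_sub, map_smul, smul_eq_mul]
  match_scalars <;> field_simp <;> ring

/-- the axial involution on a frame through its axis -/
theorem refl_frame {n : ℕ} {a : Fin n → M} (h : IsFr f a) (m i : Fin n) :
    refl f (a m) (a i) = sgn F (decide (i ≠ m)) • a i := by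
  rcases eq_or_ne i m with rfl | hi
  · rw [refl_self (h.aniso i)]; simp [sgn]
  · rw [refl_perp (h.orth m i hi.symm)]; simp [sgn, hi]

/-- an orthogonal frame through two orthogonal anisotropic vectors -/
theorem exists_fr_pair (hS : SymNd f) (hn : finrank F M = 3) {a₀ a₁ : M} (h0 : f a₀ a₀ ≠ 0)
    (h1 : f a₁ a₁ ≠ 0) (h01 : f a₀ a₁ = 0) : ∃ a₂, IsFr f ![a₀, a₁, a₂] := by
  have h10 : f a₁ a₀ = 0 := by rw [hS.symm]; exact h01
  have hnd := hS.ndS_cut hS.ndS_top (Submodule.mem_top (x := a₀)) h0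
  have hnd' := hS.ndS_cut hnd (e := a₁) ⟨Submodule.mem_top, mem_perpV.2 fun i => by fin_cases i; exact h10⟩ h1
  have d1 := SymNd.finrank_cut (f := f) (⊤ : Submodule F M) ![a₀]
  have d2 := SymNd.finrank_cut (f := f) ((⊤ : Submodule F M) ⊓ perpV f ![a₀]) ![a₁]
  rw [finrank_top, hn] at d1
  obtain ⟨a₂, ⟨⟨-, ha0⟩, ha1⟩, h2⟩ := hS.exists_aniso_of_pos hnd' (by omega)
  have e0 : f a₂ a₀ = 0 := mem_perpV.1 ha0 0
  have e1 : f a₂ a₁ = 0 := mem_perpV.1 ha1 0
  refine ⟨a₂, ⟨fun i j hij => ?_, fun i => ?_⟩⟩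
  · fin_cases i <;> fin_cases j <;> first
      | exact absurd rfl hij
      | simp [h01, h10, e0, e1, (hS.symm a₂ a₀).trans e0, (hS.symm a₂ a₁).trans e1]
  · fin_cases i <;> simp [h0, h1, h2]

/-- an anisotropic vector orthogonal to a given one -/
theorem exists_perp (hS : SymNd f) (hn : finrank F M = 3) {a₀ : M} (h0 : f a₀ a₀ ≠ 0) :
    ∃ a₁, f a₀ a₁ = 0 ∧ f a₁ a₁ ≠ 0 := by
  have hnd := hS.ndS_cut hS.ndS_top (Submodule.mem_top (x := a₀)) h0
  have d1 := SymNd.finrank_cut (f := f) (⊤ : Submodule F M) ![a₀]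
  rw [finrank_top, hn] at d1
  obtain ⟨a₁, ⟨-, h⟩, h1⟩ := hS.exists_aniso_of_pos hnd (by omega)
  exact ⟨a₁, by rw [hS.symm]; exact mem_perpV.1 h 0, h1⟩

/-- an orthogonal frame through an anisotropic vector -/
theorem exists_fr_through (hS : SymNd f) (hn : finrank F M = 3) {a₀ : M} (h0 : f a₀ a₀ ≠ 0) :
    ∃ a₁ a₂, IsFr f ![a₀, a₁, a₂] := by
  obtain ⟨a₁, h01, h1⟩ := exists_perp hS hn h0
  exact ⟨a₁, exists_fr_pair hS hn h0 h1 h01⟩

end Frames

namespace WData

variable {T : Sys F A B V (RingHom.id F)} {H : Subgroup (V ≃ₗ[F] V)}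
variable [Finite F] [FiniteDimensional F A] [FiniteDimensional F B] [FiniteDimensional F V]

theorem ext_fr (D : WData T H) {a : Fin 3 → A} {l : Fin 3 → B} (ha : IsFr T.fA a) (hl : IsFr T.fB l)
    {W : Type*} [AddCommGroup W] [Module F W] {f g : V →ₗ[F] W}
    (h : ∀ i k, f (T.tau (a i) (l k)) = g (T.tau (a i) (l k))) : f = g := by
  refine D.ext_tau fun x y => ?_
  have e1 : ∀ i y, f (T.tau (a i) y) = g (T.tau (a i) y) := fun i y =>
    LinearMap.congr_fun (LinearMap.ext_on_range (hl.span_eq_top D.dimB)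
      (f := f ∘ₗ T.tau (a i)) (g := g ∘ₗ T.tau (a i)) (h i)) y
  exact LinearMap.congr_fun (LinearMap.ext_on_range (ha.span_eq_top D.dimA)
    (f := f ∘ₗ T.tau.flip y) (g := g ∘ₗ T.tau.flip y) fun i => e1 i y) x

theorem dg_mul_comm (D : WData T H) {a : Fin 3 → A} {l : Fin 3 → B} (ha : IsFr T.fA a) (hl : IsFr T.fB l)
    {g g' : V ≃ₗ[F] V} {S S' : Fin 3 → Fin 3 → Bool} (h : Dg T a l S g) (h' : Dg T a l S' g') :
    g * g' = g' * g :=
  LinearEquiv.toLinearMap_injective (D.ext_fr ha hl fun i k => by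
    show g (g' _) = g' (g _)
    rw [h', h, map_smul, map_smul, h, h', smul_comm])

theorem pv_form (D : WData T H) {a : Fin 3 → A} {l : Fin 3 → B} (ha : IsFr T.fA a) (hl : IsFr T.fB l) :
    (∀ p q, p ≠ q → T.form (pv T a l p) (pv T a l q) = 0) ∧
      ∀ p, T.form (pv T a l p) (pv T a l p) ≠ 0 := by
  refine ⟨fun p q hpq => ?_, fun p => ?_⟩
  · rw [pv, pv, D.form_tau]
    rcases eq_or_ne p.1 q.1 with h1 | h1
    · rw [hl.orth _ _ fun h2 => hpq (Prod.ext h1 h2), mul_zero]
    · rw [ha.orth _ _ h1, zero_mul]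
  · rw [pv, D.form_tau]; exact mul_ne_zero (ha.aniso _) (hl.aniso _)

theorem pv_indep (D : WData T H) {a : Fin 3 → A} {l : Fin 3 → B} (ha : IsFr T.fA a) (hl : IsFr T.fB l) :
    LinearIndependent F (pv T a l) := by
  classical
  obtain ⟨h0, h1⟩ := D.pv_form ha hl
  rw [Fintype.linearIndependent_iff]
  intro c hc p
  have e := congrArg (fun x => T.form x (pv T a l p)) hc
  simp only [map_sum, map_smul, LinearMap.sum_apply, LinearMap.smul_apply, smul_eq_mul, map_zero,
    LinearMap.zero_apply] at e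
  rw [Finset.sum_eq_single p (fun q _ hq => by rw [h0 q p hq, mul_zero]) (by simp)] at e
  exact (mul_eq_zero.1 e).resolve_right (h1 p)

/-- the expansion in a product frame -/
theorem pv_expand (D : WData T H) {a : Fin 3 → A} {l : Fin 3 → B} (ha : IsFr T.fA a) (hl : IsFr T.fB l)
    (x : V) : x = ∑ p, (T.form x (pv T a l p) / T.form (pv T a l p) (pv T a l p)) • pv T a l p := by
  classical
  obtain ⟨h0, h1⟩ := D.pv_form ha hl
  let f : V →ₗ[F] V := ∑ p, ((T.form (pv T a l p) (pv T a l p))⁻¹ • T.form.flip (pv T a l p)).smulRight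
    (pv T a l p)
  have hf : f = LinearMap.id := D.ext_fr ha hl fun i k => by
    show f (pv T a l (i, k)) = pv T a l (i, k)
    simp only [f, LinearMap.sum_apply, LinearMap.smulRight_apply, LinearMap.smul_apply, LinearMap.flip_apply]
    rw [Finset.sum_eq_single (i, k) (fun q _ hq => by
      rw [h0 (i, k) q hq.symm, smul_zero, zero_smul]) (by simp), smul_eq_mul, inv_mul_cancel₀ (h1 _), one_smul]
  conv_lhs => rw [← LinearMap.id_apply (R := F) x, ← hf]
  simp only [f, LinearMap.sum_apply, LinearMap.smulRight_apply, LinearMap.smul_apply, LinearMap.flip_apply,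
    smul_eq_mul]
  exact Finset.sum_congr rfl fun p _ => by rw [div_eq_inv_mul]

/-- intertwined sign elements: classes go to classes -/
theorem map_class (D : WData T H) {g d d' : V ≃ₗ[F] V} (hd' : d' ∈ H) (h : g * d = d' * g)
    {a a' : Fin 3 → A} {l l' : Fin 3 → B} {S S' : Fin 3 → Fin 3 → Bool} (hS : Dg T a l S d)
    (hS' : Dg T a' l' S' d') {i : Fin 3} {k : Fin 3} {i' : Fin 3} {k' : Fin 3} (hne : S' i' k' ≠ S i k) :
    T.form (g (T.tau (a i) (l k))) (T.tau (a' i') (l' k')) = 0 := by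
  set y := g (T.tau (a i) (l k)) with hy
  have e1 : d' y = sgn F (S i k) • y := by
    show (d' * g) (T.tau (a i) (l k)) = _
    rw [← h, LinearEquiv.mul_apply, hS, map_smul]
  have e2 := D.isom d' hd' y (T.tau (a' i') (l' k'))
  rw [e1, hS'] at e2
  simp only [map_smul, LinearMap.smul_apply, smul_eq_mul] at e2
  rw [← mul_assoc, sgn_mul] at e2
  have hx : xor (S' i' k') (S i k) = true := by
    revert hne; cases S i k <;> cases S' i' k' <;> simp
  rw [hx] at e2
  simp only [sgn, cond_true] at e2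
  exact (mul_eq_zero.1 (show (2 : F) * T.form y (T.tau (a' i') (l' k')) = 0 by
    linear_combination -e2)).resolve_left D.symA.two

theorem card_class_le (D : WData T H) {g d d' : V ≃ₗ[F] V} (hd' : d' ∈ H) (h : g * d = d' * g)
    {a a' : Fin 3 → A} {l l' : Fin 3 → B} (ha : IsFr T.fA a) (hl : IsFr T.fB l) (ha' : IsFr T.fA a')
    (hl' : IsFr T.fB l') {S S' : Fin 3 → Fin 3 → Bool} (hS : Dg T a l S d) (hS' : Dg T a' l' S' d') :
    (Finset.univ.filter fun p : Fin 3 × Fin 3 => S p.1 p.2 = false).card ≤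
      (Finset.univ.filter fun p : Fin 3 × Fin 3 => S' p.1 p.2 = false).card := by
  classical
  set s := Finset.univ.filter fun p : Fin 3 × Fin 3 => S p.1 p.2 = false
  set s' := Finset.univ.filter fun p : Fin 3 × Fin 3 => S' p.1 p.2 = false
  set W : Submodule F V := Submodule.span F ↑(s'.image (pv T a' l'))
  have hmem : ∀ p : s, g (pv T a l p.1) ∈ W := fun p => by
    rw [D.pv_expand ha' hl' (g (pv T a l p.1))]
    refine Submodule.sum_mem _ fun q _ => ?_
    by_cases hq : q ∈ s'
    · exact W.smul_mem _ (Submodule.subset_span (Finset.mem_image_of_mem _ hq))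
    · have hp : S p.1.1 p.1.2 = false := (Finset.mem_filter.1 p.2).2
      have hz : T.form (g (pv T a l p.1)) (pv T a' l' q) = 0 := D.map_class hd' h hS hS' (by
        rw [hp]
        exact fun e => hq (Finset.mem_filter.2 ⟨Finset.mem_univ _, e⟩))
      rw [hz, zero_div, zero_smul]
      exact W.zero_mem
  have hind : LinearIndependent F fun p : s => (⟨g (pv T a l p.1), hmem p⟩ : W) := by
    refine LinearIndependent.of_comp W.subtype ?_
    exact ((D.pv_indep ha hl).comp _ Subtype.val_injective).map' (g : V →ₗ[F] V) (LinearEquiv.ker g)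
  have h1 := hind.fintype_card_le_finrank
  rw [Fintype.card_coe] at h1
  have h2 : finrank F W ≤ (s'.image (pv T a' l')).card := finrank_span_finset_le_card _
  exact h1.trans (h2.trans Finset.card_image_le)

/-- conjugate sign elements have classes of equal size -/
theorem card_class_eq (D : WData T H) {g d d' : V ≃ₗ[F] V} (hd : d ∈ H) (hd' : d' ∈ H) (h : g * d = d' * g)
    {a a' : Fin 3 → A} {l l' : Fin 3 → B} (ha : IsFr T.fA a) (hl : IsFr T.fB l) (ha' : IsFr T.fA a')
    (hl' : IsFr T.fB l') {S S' : Fin 3 → Fin 3 → Bool} (hS : Dg T a l S d) (hS' : Dg T a' l' S' d') :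
    (Finset.univ.filter fun p : Fin 3 × Fin 3 => S p.1 p.2 = false).card =
      (Finset.univ.filter fun p : Fin 3 × Fin 3 => S' p.1 p.2 = false).card := by
  refine le_antisymm (D.card_class_le hd' h ha hl ha' hl' hS hS') (D.card_class_le (g := g⁻¹) hd ?_ ha' hl' ha hl hS' hS)
  calc g⁻¹ * d' = g⁻¹ * (d' * g) * g⁻¹ := by group
    _ = g⁻¹ * (g * d) * g⁻¹ := by rw [h]
    _ = d * g⁻¹ := by group

/-- the action of an axial involution on a product frame -/
theorem dg_of_ax (D : WData T H) {a : Fin 3 → A} (ha : IsFr T.fA a) {l : Fin 3 → B} {m : Fin 3}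
    {g : V ≃ₗ[F] V} (h : IsAx T g (a m)) : Dg T a l (fun i _ => decide (i ≠ m)) g := fun i k => by
  rw [h, refl_frame ha, map_smul, LinearMap.smul_apply]

/-- the action of a product of axial involutions on a product frame -/
theorem dg_of_p (D : WData T H) {a : Fin 3 → A} (ha : IsFr T.fA a) {l : Fin 3 → B} (hl : IsFr T.fB l)
    {m n : Fin 3} {g : V ≃ₗ[F] V} (h : IsP T g (a m) (l n)) :
    Dg T a l (fun i k => xor (decide (i ≠ m)) (decide (k ≠ n))) g := fun i k => by
  rw [h, refl_frame ha, refl_frame hl, map_smul, map_smul, LinearMap.smul_apply, smul_smul, mul_comm, sgn_mul]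

theorem ax_of_dg (D : WData T H) {a : Fin 3 → A} (ha : IsFr T.fA a) {l : Fin 3 → B} (hl : IsFr T.fB l)
    {m : Fin 3} {g : V ≃ₗ[F] V} (h : Dg T a l (fun i _ => decide (i ≠ m)) g) : IsAx T g (a m) := by
  refine fun x b => LinearMap.congr_fun (LinearMap.congr_fun (LinearMap.ext_on_range (ha.span_eq_top D.dimA)
    (f := (T.tau.compr₂ (g : V →ₗ[F] V))) (g := T.tau.comp (refl T.fA (a m))) fun i =>
      LinearMap.ext_on_range (hl.span_eq_top D.dimB) fun k => ?_) x) b
  show g (T.tau (a i) (l k)) = T.tau (refl T.fA (a m) (a i)) (l k)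
  rw [h, refl_frame ha, map_smul, LinearMap.smul_apply]

theorem p_of_dg (D : WData T H) {a : Fin 3 → A} (ha : IsFr T.fA a) {l : Fin 3 → B} (hl : IsFr T.fB l)
    {m n : Fin 3} {g : V ≃ₗ[F] V}
    (h : Dg T a l (fun i k => xor (decide (i ≠ m)) (decide (k ≠ n))) g) : IsP T g (a m) (l n) := by
  refine fun x b => LinearMap.congr_fun (LinearMap.congr_fun (LinearMap.ext_on_range (ha.span_eq_top D.dimA)
    (f := (T.tau.compr₂ (g : V →ₗ[F] V))) (g := (T.tau.compl₂ (refl T.fB (l n))).comp (refl T.fA (a m)))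
      fun i => LinearMap.ext_on_range (hl.span_eq_top D.dimB) fun k => ?_) x) b
  show g (T.tau (a i) (l k)) = T.tau (refl T.fA (a m) (a i)) (refl T.fB (l n) (l k))
  rw [h, refl_frame ha, refl_frame hl, map_smul, map_smul, LinearMap.smul_apply, smul_smul, mul_comm, sgn_mul]

/-- a vector fixed by an axial involution lies in its slice -/
theorem fix_axis (D : WData T H) {z : V ≃ₗ[F] V} {a : A} (ha : T.fA a a ≠ 0) (hz : IsAx T z a) {y : V}
    (hy : z y = y) : y = T.tau a ((T.fA a a)⁻¹ • T.C' a y) := by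
  have h2 := D.symA.two
  have key : (z : V →ₗ[F] V) = (2 : F) • (T.tau a ∘ₗ ((T.fA a a)⁻¹ • T.C' a)) - LinearMap.id :=
    D.ext_tau fun x b => by
      show z (T.tau x b) = (2 : F) • T.tau a ((T.fA a a)⁻¹ • T.C' a (T.tau x b)) - T.tau x b
      rw [hz, refl_apply, D.C'_tau, D.symA.symm a x]
      simp only [map_sub, map_smul, LinearMap.sub_apply, LinearMap.smul_apply]
      match_scalars <;> field_simp
  have h := LinearMap.congr_fun key y
  change z y = (2 : F) • T.tau a ((T.fA a a)⁻¹ • T.C' a y) - y at h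
  rw [hy] at h
  refine smul_right_injective V h2 ?_
  show (2 : F) • y = _
  linear_combination (norm := module) h

theorem ax_sq (D : WData T H) {z : V ≃ₗ[F] V} {a : A} (ha : T.fA a a ≠ 0) (hz : IsAx T z a) : z * z = 1 :=
  D.ext_lin fun x b => by rw [LinearEquiv.mul_apply, hz, hz, refl_refl ha]; rfl

theorem p_sq (D : WData T H) {z : V ≃ₗ[F] V} {a : A} {b : B} (ha : T.fA a a ≠ 0) (hb : T.fB b b ≠ 0)
    (hz : IsP T z a b) : z * z = 1 :=
  D.ext_lin fun x y => by rw [LinearEquiv.mul_apply, hz, hz, refl_refl ha, refl_refl hb]; rfl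

/-- the product of the axes of the two factors -/
theorem p_of_ax (D : WData T H) {z w : V ≃ₗ[F] V} {a : A} {b : B} (hz : IsAx T z a)
    (hw : IsAx (flipSys T) w b) : IsP T (z * w) a b ∧ z * w = w * z := by
  have hw' : ∀ x y, w (T.tau x y) = T.tau x (refl T.fB b y) := fun x y => hw y x
  exact ⟨fun x y => by rw [LinearEquiv.mul_apply, hw', hz],
    D.ext_lin fun x y => by rw [LinearEquiv.mul_apply, LinearEquiv.mul_apply, hw', hz, hz, hw']⟩

end WData

end CfsgLib.MaxSub.TWr
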