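import Cfsg.Agent.Lib.MaxSub.TWr.Refl

/-!
`O3 ⊗ O3` with the exchange of the factors: pure and exchanging elements, and the classification of the pure
involutions conjugate to an axial one or to the product of two.
-/

set_option autoImplicit false
set_option linter.unusedSectionVars false
set_option linter.unusedSimpArgs false
set_option linter.unusedVariables false
set_option linter.style.haveILetI false
set_option maxHeartbeats 1000000

namespace CfsgLib.MaxSub.TWr

open Module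
open CfsgLib.MaxSub.TForm

variable {F A B V : Type*} [Field F] [AddCommGroup A] [Module F A] [AddCommGroup B] [Module F B]
  [AddCommGroup V] [Module F V]

/-- exchanging the factors -/
def Swap (T : Sys F A B V (RingHom.id F)) (g : V → V) : Prop :=
  ∃ (M : A →ₗ[F] B) (h : B →ₗ[F] A), ∀ a b, g (T.tau a b) = T.tau (h b) (M a)

/-- pure or exchanging the factors -/
def Gd (T : Sys F A B V (RingHom.id F)) (g : V → V) : Prop := IsKron T g ∨ Swap T g

theorem kron_flip {T : Sys F A B V (RingHom.id F)} {g : V → V} (h : IsKron (flipSys T) g) : IsKron T g := by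
  obtain ⟨M, f, h⟩ := h
  exact ⟨f, M, fun a b => h b a⟩

theorem swap_flip {T : Sys F A B V (RingHom.id F)} {g : V → V} (h : Swap (flipSys T) g) : Swap T g := by
  obtain ⟨M, f, h⟩ := h
  exact ⟨f, M, fun a b => h b a⟩

theorem gd_flip {T : Sys F A B V (RingHom.id F)} {g : V → V} (h : Gd (flipSys T) g) : Gd T g :=
  h.imp kron_flip swap_flip

theorem kron_of_isAx {T : Sys F A B V (RingHom.id F)} {g : V ≃ₗ[F] V} {a : A} (h : IsAx T g a) :
    IsKron T g :=
  ⟨refl T.fA a, LinearMap.id, h⟩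

theorem kron_of_isP {T : Sys F A B V (RingHom.id F)} {g : V ≃ₗ[F] V} {a : A} {b : B} (h : IsP T g a b) :
    IsKron T g :=
  ⟨refl T.fA a, refl T.fB b, h⟩

/-- the signs of an axis -/
theorem sign_three : ∀ (ε δ : Fin 3 → Bool),
    (Finset.univ.filter fun p : Fin 3 × Fin 3 => (xor (ε p.1) (δ p.2)) = false).card = 3 →
      (∃ m, ∀ i k, (xor (ε i) (δ k)) = decide (i ≠ m)) ∨
        ∃ n, ∀ i k, (xor (ε i) (δ k)) = decide (k ≠ n) := by decide

/-- the signs of a product of axes -/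
theorem sign_five : ∀ (ε δ : Fin 3 → Bool),
    (Finset.univ.filter fun p : Fin 3 × Fin 3 => (xor (ε p.1) (δ p.2)) = false).card = 5 →
      ∃ m n, ∀ i k, (xor (ε i) (δ k)) = xor (decide (i ≠ m)) (decide (k ≠ n)) := by decide

theorem axis_card : ∀ m : Fin 3,
    (Finset.univ.filter fun p : Fin 3 × Fin 3 => decide (p.1 ≠ m) = false).card = 3 := by decide

theorem p_card : ∀ m n : Fin 3,
    (Finset.univ.filter fun p : Fin 3 × Fin 3 => (xor (decide (p.1 ≠ m)) (decide (p.2 ≠ n))) = false).card = 5 := by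
  decide

namespace WData

variable {T : Sys F A B V (RingHom.id F)} {H : Subgroup (V ≃ₗ[F] V)}
variable [Finite F] [FiniteDimensional F A] [FiniteDimensional F B] [FiniteDimensional F V]

theorem kron_mul (D : WData T H) {g g' : V ≃ₗ[F] V} (h : IsKron T g) (h' : IsKron T g') :
    IsKron T (g * g' : V ≃ₗ[F] V) := by
  obtain ⟨M, f, hf⟩ := h
  obtain ⟨M', f', hf'⟩ := h'
  exact ⟨M ∘ₗ M', f ∘ₗ f', fun a b => by simp [LinearEquiv.mul_apply, hf, hf']⟩

theorem kron_inv (D : WData T H) {g : V ≃ₗ[F] V} (h : IsKron T g) : IsKron T (g⁻¹ : V ≃ₗ[F] V) := by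
  haveI : Finite V := Module.finite_of_finite F
  haveI : Finite (V ≃ₗ[F] V) := Finite.of_injective _ DFunLike.coe_injective
  have hpow : ∀ n : ℕ, IsKron T (g ^ n : V ≃ₗ[F] V) := by
    intro n
    induction n with
    | zero => exact ⟨LinearMap.id, LinearMap.id, fun a b => rfl⟩
    | succ n ih => rw [pow_succ]; exact D.kron_mul ih h
  have h1 : g⁻¹ = g ^ (orderOf g - 1) := by
    refine inv_eq_of_mul_eq_one_right ?_
    rw [← pow_succ', Nat.sub_add_cancel (orderOf_pos g), pow_orderOf_eq_one]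
  rw [h1]
  exact hpow _

theorem swap_mul_kron (D : WData T H) {g g' : V ≃ₗ[F] V} (h : Swap T g) (h' : IsKron T g') :
    Swap T (g * g' : V ≃ₗ[F] V) := by
  obtain ⟨M, f, hf⟩ := h
  obtain ⟨M', f', hf'⟩ := h'
  exact ⟨M ∘ₗ M', f ∘ₗ f', fun a b => by simp [LinearEquiv.mul_apply, hf, hf']⟩

/-- a pure element of order two acts by signs on a product frame -/
theorem pure_invol (D : WData T H) {g : V ≃ₗ[F] V} (hg : g ∈ H) (hk : IsKron T g) (h2 : g * g = 1) :
    ∃ (a : Fin 3 → A) (l : Fin 3 → B) (ε : Fin 3 → Bool) (δ : Fin 3 → Bool), IsFr T.fA a ∧ IsFr T.fB l ∧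
      Dg T a l (fun i k => xor (ε i) (δ k)) g := by
  classical
  obtain ⟨M, f, hgab⟩ := hk
  obtain ⟨a₀, hfr⟩ := D.symA.exists_fr D.dimA
  obtain ⟨l₀, hfl⟩ := D.symB.exists_fr D.dimB
  have h20 := D.symA.two
  have hsq : ∀ a b, T.tau (M (M a)) (f (f b)) = T.tau a b := fun a b => by
    rw [← hgab, ← hgab]; exact LinearEquiv.congr_fun h2 _
  obtain ⟨w, hw⟩ : ∃ w, T.fB (f (f (l₀ 0))) w ≠ 0 := by
    by_contra hh
    push Not at hh
    have h0 : f (f (l₀ 0)) = 0 := D.symB.nondeg _ hh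
    have := hsq (a₀ 0) (l₀ 0)
    rw [h0, map_zero] at this
    have := congrArg (T.form (T.tau (a₀ 0) (l₀ 0))) this
    rw [map_zero, D.form_tau] at this
    exact mul_ne_zero (hfr.aniso 0) (hfl.aniso 0) this.symm
  set c := T.fB (l₀ 0) w / T.fB (f (f (l₀ 0))) w with hcdef
  have hM : ∀ a, M (M a) = c • a := fun a => by
    have := congrArg (T.C w) (hsq a (l₀ 0))
    rw [D.C_tau, D.C_tau] at this
    rw [hcdef, div_eq_inv_mul, ← smul_smul, ← this, inv_smul_smul₀ hw]
  have hc : c ≠ 0 := fun h0 => by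
    have := hsq (a₀ 0) (l₀ 0)
    rw [hM, h0, zero_smul, map_zero, LinearMap.zero_apply] at this
    have := congrArg (T.form (T.tau (a₀ 0) (l₀ 0))) this
    rw [map_zero, D.form_tau] at this
    exact mul_ne_zero (hfr.aniso 0) (hfl.aniso 0) this.symm
  set d := LinearMap.det M with hd
  have hd2 : d * d = c * (c * c) := by
    have e : M * M = c • (1 : Module.End F A) := LinearMap.ext fun a => by simpa using hM a
    have := congrArg LinearMap.det e
    rw [map_mul, LinearMap.det_smul, map_one, mul_one, D.dimA, ← hd] at this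
    rw [this]; ring
  set s := d / c with hsdef
  have hs2 : s * s = c := by
    rw [hsdef, div_mul_div_comm, hd2]; field_simp
  have hs : s ≠ 0 := fun h0 => hc (by rw [← hs2, h0, mul_zero])
  let α : A →ₗ[F] A := s⁻¹ • M
  let β : B →ₗ[F] B := s • f
  have hab : ∀ a b, g (T.tau a b) = T.tau (α a) (β b) := fun a b => by
    simp [hgab, α, β, smul_smul, mul_inv_cancel₀ hs, inv_mul_cancel₀ hs]
  have hα2 : ∀ a, α (α a) = a := fun a => by
    simp only [α, LinearMap.smul_apply, map_smul, hM, smul_smul]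
    rw [← hs2]
    field_simp
    simp
  have ha0ne : a₀ 0 ≠ 0 := fun h0 => hfr.aniso 0 (by simp [h0])
  have hβ2 : ∀ b, β (β b) = b := fun b => D.tau_right_inj ha0ne (by
    have := LinearEquiv.congr_fun h2 (T.tau (a₀ 0) b)
    change g (g _) = _ at this
    rwa [hab, hab, hα2] at this)
  -- similitude factors
  set qa := T.fB (β (l₀ 0)) (β (l₀ 0)) with hqa
  have hiso : ∀ a a' b b', T.fA (α a) (α a') * T.fB (β b) (β b') = T.fA a a' * T.fB b b' := fun a a' b b' => by
    rw [← D.form_tau, ← hab, ← hab, D.isom g hg, D.form_tau]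
  have hqa0 : qa ≠ 0 := fun h0 => by
    have := hiso (a₀ 0) (a₀ 0) (l₀ 0) (l₀ 0)
    rw [← hqa, h0, mul_zero] at this
    exact mul_ne_zero (hfr.aniso 0) (hfl.aniso 0) this.symm
  set μ := T.fB (l₀ 0) (l₀ 0) / qa with hμdef
  have hαμ : ∀ a a', T.fA (α a) (α a') = μ * T.fA a a' := fun a a' => by
    rw [hμdef, div_mul_eq_mul_div, eq_div_iff hqa0, hiso, mul_comm]
  have hμ2 : μ * μ = 1 := by
    have := hαμ (α (a₀ 0)) (α (a₀ 0))
    rw [hα2, hαμ, ← mul_assoc] at this
    exact mul_right_cancel₀ (hfr.aniso 0) (this.symm.trans (one_mul _).symm)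
  have hμ1 : μ = 1 := by
    rcases mul_self_eq_one_iff.1 hμ2 with h | h
    · exact h
    exfalso
    -- `μ = -1`: compare Gram determinants
    let bA := Basis.mk hfr.linearIndependent (hfr.span_eq_top D.dimA).ge
    have e1 : LinearMap.toMatrix₂ bA bA (T.fA.compl₁₂ α α) = -(LinearMap.toMatrix₂ bA bA T.fA) := by
      ext i j
      simp [LinearMap.toMatrix₂_apply, hαμ, h]
    rw [LinearMap.toMatrix₂_compl₁₂ bA bA] at e1
    have hdetα : LinearMap.det α * LinearMap.det α = 1 := by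
      have e : α * α = 1 := LinearMap.ext hα2
      have := congrArg LinearMap.det e
      rwa [map_mul, map_one] at this
    have e2 := congrArg Matrix.det e1
    rw [Matrix.det_mul, Matrix.det_mul, Matrix.det_transpose, LinearMap.det_toMatrix, Matrix.det_neg,
      Fintype.card_fin] at e2
    have hdet0 : (LinearMap.toMatrix₂ bA bA T.fA).det ≠ 0 := by
      have e3 : LinearMap.toMatrix₂ bA bA T.fA = Matrix.diagonal fun i => T.fA (a₀ i) (a₀ i) := by
        ext i j
        rcases eq_or_ne i j with rfl | hij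
        · simp [LinearMap.toMatrix₂_apply, bA]
        · simp [LinearMap.toMatrix₂_apply, bA, hij, hfr.orth i j hij]
      rw [e3, Matrix.det_diagonal]
      exact Finset.prod_ne_zero_iff.2 fun i _ => hfr.aniso i
    exact mul_ne_zero h20 hdet0 (by linear_combination e2 - (LinearMap.toMatrix₂ bA bA T.fA).det * hdetα)
  have hα : ∀ a a', T.fA (α a) (α a') = T.fA a a' := fun a a' => by rw [hαμ, hμ1, one_mul]
  have hβ : ∀ b b', T.fB (β b) (β b') = T.fB b b' := fun b b' => by
    have := hiso (a₀ 0) (a₀ 0) b b'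
    rw [hα] at this
    exact mul_left_cancel₀ (hfr.aniso 0) this
  obtain ⟨a, ε, ε', hafr, hae⟩ := D.symA.exists_fr_eig hα hα hα2 hα2 (fun _ => rfl) D.dimA
  obtain ⟨l, δ, δ', hlfr, hle⟩ := D.symB.exists_fr_eig hβ hβ hβ2 hβ2 (fun _ => rfl) D.dimB
  refine ⟨a, l, ε, δ, hafr, hlfr, fun i k => ?_⟩
  rw [hab, (hae i).1, (hle k).1, map_smul, map_smul, LinearMap.smul_apply, smul_smul, mul_comm, sgn_mul]

/-- the trace in a product frame -/
theorem trace_eq (D : WData T H) {a : Fin 3 → A} {l : Fin 3 → B} (ha : IsFr T.fA a) (hl : IsFr T.fB l)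
    (g : V →ₗ[F] V) : LinearMap.trace F V g =
      ∑ p, T.form (g (pv T a l p)) (pv T a l p) / T.form (pv T a l p) (pv T a l p) := by
  classical
  let b : Basis (Fin 3 × Fin 3) F V := Basis.mk (D.pv_indep ha hl) fun x _ => by
    rw [D.pv_expand ha hl x]
    exact Submodule.sum_mem _ fun q _ => Submodule.smul_mem _ _ (Submodule.subset_span ⟨q, rfl⟩)
  have hb : ∀ q, b q = pv T a l q := fun q => Basis.mk_apply _ _ q
  have hrepr : ∀ x q, b.repr x q = T.form x (pv T a l q) / T.form (pv T a l q) (pv T a l q) := fun x q => by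
    obtain ⟨h0, h1⟩ := D.pv_form ha hl
    conv_rhs => rw [← b.sum_repr x]
    simp only [hb, map_sum, map_smul, LinearMap.sum_apply, LinearMap.smul_apply, smul_eq_mul]
    rw [Finset.sum_eq_single q (fun q' _ hq' => by rw [h0 q' q hq', mul_zero]) (by simp),
      mul_div_assoc, div_self (h1 q), mul_one]
  rw [LinearMap.trace_eq_matrix_trace F b]
  refine Finset.sum_congr rfl fun q _ => ?_
  rw [Matrix.diag_apply, LinearMap.toMatrix_apply, hrepr, hb]

/-- the trace of a product of axial involutions -/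
theorem trace_p (D : WData T H) {g : V ≃ₗ[F] V} {p : A} {q : B} (hp : T.fA p p ≠ 0) (hq : T.fB q q ≠ 0)
    (h : IsP T g p q) : LinearMap.trace F V (g : V →ₗ[F] V) = 1 := by
  obtain ⟨a₁, a₂, ha⟩ := exists_fr_through D.symA D.dimA hp
  obtain ⟨b₁, b₂, hb⟩ := exists_fr_through D.symB D.dimB hq
  have hd := D.dg_of_p ha hb (m := 0) (n := 0) h
  rw [D.trace_eq ha hb]
  have e : ∀ r : Fin 3 × Fin 3, T.form (g (pv T ![p, a₁, a₂] ![q, b₁, b₂] r)) (pv T ![p, a₁, a₂] ![q, b₁, b₂] r) /
      T.form (pv T ![p, a₁, a₂] ![q, b₁, b₂] r) (pv T ![p, a₁, a₂] ![q, b₁, b₂] r) =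
        sgn F (xor (decide (r.1 ≠ 0)) (decide (r.2 ≠ 0))) := fun r => by
    rw [show g (pv T ![p, a₁, a₂] ![q, b₁, b₂] r) = _ from hd r.1 r.2, map_smul, LinearMap.smul_apply,
      smul_eq_mul, mul_div_assoc, ← pv, div_self ((D.pv_form ha hb).2 r), mul_one]
  refine (Finset.sum_congr rfl fun r _ => e r).trans ?_
  simp [Fintype.sum_prod_type, Fin.sum_univ_three, sgn]

/-- the trace of an exchanging involution -/
theorem trace_swap (D : WData T H) {g : V ≃ₗ[F] V} (hg : g * g = 1) (h : Swap T g) :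
    ∃ c : F, c * c = 1 ∧ LinearMap.trace F V (g : V →ₗ[F] V) = 3 * c := by
  obtain ⟨M, f, hab⟩ := h
  obtain ⟨a, ha⟩ := D.symA.exists_fr D.dimA
  obtain ⟨l, hl⟩ := D.symB.exists_fr D.dimB
  have hsq : ∀ x y, T.tau (f (M x)) (M (f y)) = T.tau x y := fun x y => by
    rw [← hab, ← hab]; exact LinearEquiv.congr_fun hg _
  have hl0 : l 0 ≠ 0 := fun h => hl.aniso 0 (by simp [h])
  have ha0 : a 0 ≠ 0 := fun h => ha.aniso 0 (by simp [h])
  obtain ⟨w, hw⟩ : ∃ w, T.fB (M (f (l 0))) w ≠ 0 := by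
    by_contra hh
    push Not at hh
    have := hsq (a 0) (l 0)
    rw [D.symB.nondeg _ hh, map_zero] at this
    have := congrArg (T.form (T.tau (a 0) (l 0))) this
    rw [map_zero, D.form_tau] at this
    exact mul_ne_zero (ha.aniso 0) (hl.aniso 0) this.symm
  set c := T.fB (l 0) w / T.fB (M (f (l 0))) w with hcdef
  have hfM : ∀ x, f (M x) = c • x := fun x => by
    have := congrArg (T.C w) (hsq x (l 0))
    rw [D.C_tau, D.C_tau] at this
    rw [hcdef, div_eq_inv_mul, ← smul_smul, ← this, inv_smul_smul₀ hw]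
  have hMf : ∀ y, c • M (f y) = y := fun y => D.tau_right_inj ha0 (by
    have := hsq (a 0) y
    rw [hfM, map_smul, LinearMap.smul_apply, ← map_smul] at this
    exact this)
  have hM0 : M (a 0) ≠ 0 := fun h0 => ha0 (by
    have := hsq (a 0) (l 0)
    rw [h0, map_zero, map_zero, LinearMap.zero_apply] at this
    exact D.tau_left_inj hl0 (this.symm.trans (by simp)))
  have hcc : c * c = 1 := by
    have := hMf (M (a 0))
    rw [hfM, map_smul, smul_smul] at this
    exact smul_left_injective F hM0 (this.trans (one_smul F _).symm)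
  refine ⟨c, hcc, ?_⟩
  rw [D.trace_eq ha hl, Fintype.sum_prod_type]
  have e : ∀ i, ∑ k, T.form (g (pv T a l (i, k))) (pv T a l (i, k)) / T.form (pv T a l (i, k)) (pv T a l (i, k)) =
      T.fA (f (M (a i))) (a i) / T.fA (a i) (a i) := fun i => by
    conv_rhs => rw [fr_expand D.dimB hl (M (a i))]
    simp only [map_sum, map_smul, LinearMap.sum_apply, LinearMap.smul_apply, smul_eq_mul, Finset.sum_div]
    refine Finset.sum_congr rfl fun k _ => ?_
    simp only [pv, hab, D.form_tau]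
    field_simp [ha.aniso i, hl.aniso k]
  show ∑ i, ∑ k, T.form (g (pv T a l (i, k))) _ / _ = _
  rw [Finset.sum_congr rfl fun i _ => e i]
  have e2 : ∀ i, T.fA (f (M (a i))) (a i) / T.fA (a i) (a i) = c := fun i => by
    rw [hfM, map_smul, LinearMap.smul_apply, smul_eq_mul, mul_div_assoc, div_self (ha.aniso i), mul_one]
  rw [Finset.sum_congr rfl fun i _ => e2 i, Finset.sum_const, Finset.card_univ, Fintype.card_fin,
    nsmul_eq_mul, Nat.cast_ofNat]

/-- an exchanging involution is not conjugate to a product of axial involutions -/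
theorem not_swap (D : WData T H) {g w k : V ≃ₗ[F] V} (hg : g * g = 1) {p : A} {q : B} (hp : T.fA p p ≠ 0)
    (hq : T.fB q q ≠ 0) (hw : IsP T w p q) (h : k * g = w * k) : ¬ Swap T g := fun hs => by
  obtain ⟨c, hc, htr⟩ := D.trace_swap hg hs
  have e : LinearMap.trace F V (g : V →ₗ[F] V) = LinearMap.trace F V (w : V →ₗ[F] V) := by
    have h1 : g = k⁻¹ * (w * k) := by rw [← h, inv_mul_cancel_left]
    have h2 : w = w * k * k⁻¹ := by rw [mul_inv_cancel_right]
    conv_rhs => rw [h2]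
    rw [h1]
    exact LinearMap.trace_mul_comm F (k⁻¹ : V ≃ₗ[F] V).toLinearMap (w * k : V ≃ₗ[F] V).toLinearMap
  rw [D.trace_p hp hq hw, htr] at e
  have h8 : (2 : F) * (2 * 2) = 0 := by linear_combination (3 * c + 1) * e - 9 * hc
  exact mul_ne_zero D.symA.two (mul_ne_zero D.symA.two D.symA.two) h8

/-- pure members centralise an axial involution -/
theorem kron_of_commAx (D : WData T H) (hno : NoFrame T H) {z g : V ≃ₗ[F] V} {a : A} (ha : T.fA a a ≠ 0)
    (hz : IsAx T z a) (hg : g ∈ H) (hc : g * z = z * g) : IsKron T g := by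
  obtain ⟨X, h, hX⟩ := D.kron_of_slice D rfl hno hg ha ha fun b => ⟨_, D.fix_axis ha hz (y := g (T.tau a b)) (by
    have := LinearEquiv.congr_fun hc (T.tau a b)
    rw [LinearEquiv.mul_apply, LinearEquiv.mul_apply, hz, refl_self ha] at this
    exact this.symm)⟩
  exact ⟨X, h, hX⟩

/-- pure members centralise an axial involution of the second factor -/
theorem kron_of_commAxB (D : WData T H) (hno' : NoFrame (flipSys T) H) {z g : V ≃ₗ[F] V} {b : B}
    (hb : T.fB b b ≠ 0) (hz : IsAx (flipSys T) z b) (hg : g ∈ H) (hc : g * z = z * g) : IsKron T g :=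
  kron_flip (D.flip.kron_of_commAx hno' hb hz hg hc)

/-- a pure conjugate of an axial involution is axial -/
theorem ax_of_kron (D : WData T H) {g z s : V ≃ₗ[F] V} {a : A} (ha : T.fA a a ≠ 0) (hzH : z ∈ H)
    (hz : IsAx T z a) (hs : s ∈ H) (hk : IsKron T s) (hc : g * z = s * g) :
    (∃ p, T.fA p p ≠ 0 ∧ IsAx T s p) ∨ ∃ q, T.fB q q ≠ 0 ∧ IsAx (flipSys T) s q := by
  have hs2 : s * s = 1 := by
    have h1 : s = g * z * g⁻¹ := by rw [hc, mul_inv_cancel_right]
    rw [h1, show g * z * g⁻¹ * (g * z * g⁻¹) = g * (z * z) * g⁻¹ by group, D.ax_sq ha hz, mul_one,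
      mul_inv_cancel]
  obtain ⟨a', l', ε, δ, ha', hl', hd⟩ := D.pure_invol hs hk hs2
  obtain ⟨a₁, a₂, hfr⟩ := exists_fr_through D.symA D.dimA ha
  obtain ⟨l, hl⟩ := D.symB.exists_fr D.dimB
  have hcard := D.card_class_eq hzH hs hc hfr hl ha' hl' (D.dg_of_ax hfr (l := l) (m := 0) hz) hd
  rw [axis_card 0] at hcard
  rcases sign_three ε δ hcard.symm with ⟨m, hm⟩ | ⟨n, hn⟩
  · exact Or.inl ⟨a' m, ha'.aniso m, D.ax_of_dg ha' hl' fun i k => by rw [hd i k]; beta_reduce; rw [hm]⟩
  · exact Or.inr ⟨l' n, hl'.aniso n, D.flip.ax_of_dg hl' ha' fun k i => by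
      show s (T.tau (a' i) (l' k)) = sgn F (decide (k ≠ n)) • T.tau (a' i) (l' k)
      rw [hd i k]; beta_reduce; rw [hn]⟩

/-- a pure conjugate of a product of axial involutions is one -/
theorem p_of_kron (D : WData T H) {g z s : V ≃ₗ[F] V} {a : A} {b : B} (ha : T.fA a a ≠ 0)
    (hb : T.fB b b ≠ 0) (hzH : z ∈ H) (hz : IsP T z a b) (hs : s ∈ H) (hk : IsKron T s)
    (hc : g * z = s * g) : ∃ p q, T.fA p p ≠ 0 ∧ T.fB q q ≠ 0 ∧ IsP T s p q := by
  have hs2 : s * s = 1 := by
    have h1 : s = g * z * g⁻¹ := by rw [hc, mul_inv_cancel_right]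
    rw [h1, show g * z * g⁻¹ * (g * z * g⁻¹) = g * (z * z) * g⁻¹ by group, D.p_sq ha hb hz, mul_one,
      mul_inv_cancel]
  obtain ⟨a', l', ε, δ, ha', hl', hd⟩ := D.pure_invol hs hk hs2
  obtain ⟨a₁, a₂, hfa⟩ := exists_fr_through D.symA D.dimA ha
  obtain ⟨b₁, b₂, hfb⟩ := exists_fr_through D.symB D.dimB hb
  have hcard := D.card_class_eq hzH hs hc hfa hfb ha' hl' (D.dg_of_p hfa hfb (m := 0) (n := 0) hz) hd
  rw [p_card 0 0] at hcard
  obtain ⟨m, n, hmn⟩ := sign_five ε δ hcard.symm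
  exact ⟨a' m, l' n, ha'.aniso m, hl'.aniso n, D.p_of_dg ha' hl' fun i k => by
    rw [hd i k]; beta_reduce; rw [hmn]⟩

/-- an element conjugating an axial involution to a pure one is pure or exchanges the factors -/
theorem gd_of_conj_ax (D : WData T H) (hno : NoFrame T H) (hno' : NoFrame (flipSys T) H) {g z s : V ≃ₗ[F] V}
    {a : A} (ha : T.fA a a ≠ 0) (hzH : z ∈ H) (hz : IsAx T z a) (hg : g ∈ H) (hs : s ∈ H)
    (hk : IsKron T s) (hc : g * z = s * g) : Gd T g := by
  have hfix : ∀ b, s (g (T.tau a b)) = g (T.tau a b) := fun b => by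
    have := LinearEquiv.congr_fun hc (T.tau a b)
    rw [LinearEquiv.mul_apply, LinearEquiv.mul_apply, hz, refl_self ha] at this
    exact this.symm
  rcases D.ax_of_kron ha hzH hz hs hk hc with ⟨p, hp, hsp⟩ | ⟨q, hq, hsq⟩
  · obtain ⟨X, h, hX⟩ := D.kron_of_slice D rfl hno hg ha hp fun b => ⟨_, D.fix_axis hp hsp (hfix b)⟩
    exact Or.inl ⟨X, h, hX⟩
  · obtain ⟨X, h, hX⟩ := D.kron_of_slice D.flip rfl hno' hg ha hq fun b =>
      ⟨_, D.flip.fix_axis hq hsq (hfix b)⟩
    exact Or.inr ⟨X, h, hX⟩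

/-- as `gd_of_conj_ax`, for an axis of the second factor -/
theorem gd_of_conj_axB (D : WData T H) (hno : NoFrame T H) (hno' : NoFrame (flipSys T) H) {g z s : V ≃ₗ[F] V}
    {b : B} (hb : T.fB b b ≠ 0) (hzH : z ∈ H) (hz : IsAx (flipSys T) z b) (hg : g ∈ H) (hs : s ∈ H)
    (hk : IsKron T s) (hc : g * z = s * g) : Gd T g :=
  gd_flip (D.flip.gd_of_conj_ax hno' hno hb hzH hz hg hs (kron_flip (T := flipSys T) hk) hc)

end WData

end CfsgLib.MaxSub.TWr
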