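import Cfsg.Agent.Lib.MaxSub.TWr.Centra

/-!
`O3 ⊗ O3` with the exchange of the factors, no Siegel maps at singular pencils on either side: every member is
pure or exchanges the factors.
-/

set_option autoImplicit false
set_option linter.unusedSectionVars false
set_option linter.unusedSimpArgs false
set_option linter.unusedVariables false
set_option linter.style.haveILetI false
set_option maxHeartbeats 1000000

namespace CfsgLib.MaxSub.TWr

open Module
open CfsgLib.MaxSub.TForm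

variable {F A B V : Type*} [Field F] [AddCommGroup A] [Module F A] [AddCommGroup B] [Module F B]
  [AddCommGroup V] [Module F V]

namespace WData

variable {T : Sys F A B V (RingHom.id F)} {H : Subgroup (V ≃ₗ[F] V)}
variable [Finite F] [FiniteDimensional F A] [FiniteDimensional F B] [FiniteDimensional F V]

/-- an element carrying a product of axes to another one carries the axial involutions along -/
theorem ax_image (D : WData T H) {a₀ p : A} {l₀ q : B} (ha₀ : T.fA a₀ a₀ ≠ 0) (hl₀ : T.fB l₀ l₀ ≠ 0)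
    (hp : T.fA p p ≠ 0) (hq : T.fB q q ≠ 0) {z₀ w₀ x w g : V ≃ₗ[F] V} (hz₀H : z₀ ∈ H)
    (hz₀ : IsAx T z₀ a₀) (hw₀H : w₀ ∈ H) (hw₀ : IsAx (flipSys T) w₀ l₀) (hx : x = z₀ * w₀)
    (hg : g ∈ H) (hgd : Gd T g) (hw : IsP T w p q) (hgx : g * x = w * g) :
    Ax T H p ∧ Ax (flipSys T) H q := by
  set z := g * z₀ * g⁻¹ with hz
  set e := g * w₀ * g⁻¹ with he
  have hzH : z ∈ H := mul_mem (mul_mem hg hz₀H) (inv_mem hg)
  have heH : e ∈ H := mul_mem (mul_mem hg hw₀H) (inv_mem hg)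
  have hze : z * e = w := by
    have h1 : w = g * x * g⁻¹ := by rw [hgx, mul_inv_cancel_right]
    rw [h1, hx, hz, he]; group
  have hez : e * z = w := by
    have h1 : w = g * x * g⁻¹ := by rw [hgx, mul_inv_cancel_right]
    rw [h1, hx, (D.p_of_ax hz₀ hw₀).2, hz, he]; group
  have hwk : IsKron T w₀ := kron_flip (kron_of_isAx hw₀)
  rcases D.ax_of_kron ha₀ hz₀H hz₀ hzH (D.kron_conj hgd (kron_of_isAx hz₀)) (g := g) (by rw [hz]; group) with
    ⟨p', hp', hzp⟩ | ⟨q', hq', hzq⟩ <;>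
  rcases D.flip.ax_of_kron hl₀ hw₀H hw₀ heH (kron_flip (T := flipSys T) (D.kron_conj hgd hwk)) (g := g)
    (by rw [he]; group) with ⟨q'', hq'', heq⟩ | ⟨p'', hp'', hep⟩
  · have h := (D.p_of_ax hzp heq).1
    rw [hze] at h
    obtain ⟨hA, hB⟩ := D.p_unique hp hp' hq hq'' hw h
    exact ⟨⟨z, hzH, fun v b => by rw [hA]; exact hzp v b⟩,
      ⟨e, heH, fun b v => by
        show e (T.tau v b) = T.tau v (refl T.fB q b)
        rw [hB]; exact heq b v⟩⟩
  · refine (D.p_not_left hp hq hw (α := refl T.fA p' ∘ₗ refl T.fA p'') fun v b => ?_).elim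
    rw [← hze, LinearEquiv.mul_apply, show e (T.tau v b) = T.tau (refl T.fA p'' v) b from hep v b, hzp]
    rfl
  · refine (D.flip.p_not_left hq hp (p_flip hw) (α := refl T.fB q' ∘ₗ refl T.fB q'') fun b v => ?_).elim
    rw [← hze, LinearEquiv.mul_apply, show e ((flipSys T).tau b v) = (flipSys T).tau (refl T.fB q'' b) v from heq b v,
      hzq]
    rfl
  · have h := (D.p_of_ax (show IsAx T e p'' from hep) hzq).1
    rw [hez] at h
    obtain ⟨hA, hB⟩ := D.p_unique hp hp'' hq hq' hw h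
    exact ⟨⟨e, heH, fun v b => by rw [hA]; exact hep v b⟩,
      ⟨z, hzH, fun b v => by
        show z (T.tau v b) = T.tau v (refl T.fB q b)
        rw [hB]; exact hzq b v⟩⟩

/-- every member is pure or exchanges the factors -/
theorem gd_all (D : WData T H) (hno : NoFrame T H) (hno' : NoFrame (flipSys T) H) :
    ∀ g ∈ H, Gd T g := by
  haveI : Finite V := Module.finite_of_finite F
  haveI : Finite (V ≃ₗ[F] V) := Finite.of_injective _ DFunLike.coe_injective
  obtain ⟨a, ha⟩ := D.symA.exists_fr D.dimA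
  obtain ⟨l, hl⟩ := D.symB.exists_fr D.dimB
  obtain ⟨a₀, -, ha₀, z₀, hz₀H, hz₀ : IsAx T z₀ a₀⟩ := D.axA (a 0) (ha.aniso 0)
  obtain ⟨l₀, -, hl₀, w₀, hw₀H, hw₀ : IsAx (flipSys T) w₀ l₀⟩ := D.axB (l 0) (hl.aniso 0)
  obtain ⟨a₁, ha01, ha₁, t, htH, ht : IsAx T t a₁⟩ := D.axA a₀ ha₀
  set x := z₀ * w₀ with hxdef
  have hxH : x ∈ H := mul_mem hz₀H hw₀H
  have hx : IsP T x a₀ l₀ := (D.p_of_ax hz₀ hw₀).1
  have hcent : ∀ n ∈ H, n * x = x * n → Gd T n := fun n hn hc =>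
    D.cu hno hno' ha₀ hl₀ hz₀H hz₀ hw₀H hw₀ hxH hx hn hc
  have img : ∀ g ∈ H, ∀ (p : A) (q : B), T.fA p p ≠ 0 → T.fB q q ≠ 0 → IsP T (g * x * g⁻¹) p q →
      Gd T g := fun g hg p q hp hq hs => by
    obtain ⟨r, hpr, hr, z, hzH, hz : IsAx T z r⟩ := D.axA p hp
    exact D.gd_of_pull hno hno' ha₀ hl₀ hx hg hr hp hq (by rw [D.symA.symm]; exact hpr) hzH hz hs hcent
  intro g hg
  set s := g * x * g⁻¹ with hsdef
  have hsH : s ∈ H := mul_mem (mul_mem hg hxH) (inv_mem hg)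
  have ht2 : t * t = 1 := D.ax_sq ha₁ ht
  have hs2 : s * s = 1 := by
    rw [hsdef, show g * x * g⁻¹ * (g * x * g⁻¹) = g * (x * x) * g⁻¹ by group, D.p_sq ha₀ hl₀ hx, mul_one,
      mul_inv_cancel]
  suffices hspure : IsKron T s by
    obtain ⟨p, q, hp, hq, hsp⟩ := D.p_of_kron ha₀ hl₀ hxH hx hsH hspure (g := g) (by rw [hsdef]; group)
    exact img g hg p q hp hq hsp
  have hnc : ¬ IsConj (⟨t, htH⟩ : H) ⟨s, hsH⟩ := fun h => by
    obtain ⟨r, hr⟩ := isConj_iff.1 h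
    have hr' : r.1 * t * r.1⁻¹ = g * x * g⁻¹ := congrArg Subtype.val hr
    have e : g⁻¹ * r.1 * t = x * (g⁻¹ * r.1) := by
      calc g⁻¹ * r.1 * t = g⁻¹ * (r.1 * t * r.1⁻¹) * r.1 := by group
        _ = g⁻¹ * (g * x * g⁻¹) * r.1 := by rw [hr']
        _ = x * (g⁻¹ * r.1) := by group
    obtain ⟨a₂, hfa⟩ := exists_fr_pair D.symA D.dimA ha₀ ha₁ ha01
    obtain ⟨l₁, l₂, hfl⟩ := exists_fr_through D.symB D.dimB hl₀
    have dt : Dg T ![a₀, a₁, a₂] ![l₀, l₁, l₂] _ t := D.dg_of_ax hfa (m := 1) ht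
    have dx : Dg T ![a₀, a₁, a₂] ![l₀, l₁, l₂] _ x := D.dg_of_p hfa hfl (m := 0) (n := 0) hx
    have hh := D.card_class_eq htH hxH e hfa hfl hfa hfl dt dx
    revert hh
    decide
  obtain ⟨jH, -, hj1, hj2, hjt, hjs, hjc⟩ := exists_commuting_involution (⟨t, htH⟩ : H) ⟨s, hsH⟩
    (Subtype.ext ht2) (Subtype.ext hs2) hnc
  set j := jH.1 with hjdef
  have hjt' : j * t = t * j := congrArg Subtype.val hjt.eq
  have hjs' : s * j = j * s := (congrArg Subtype.val hjs.eq).symm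
  have hjj : j ∈ H := jH.2
  set w := t * j with hwdef
  have hjw : j = t * w := by rw [hwdef, ← mul_assoc, ht2, one_mul]
  have hwH : w ∈ H := mul_mem htH hjj
  have hwK : IsKron T w := D.kron_mul (kron_of_isAx ht) (D.kron_of_commAx hno ha₁ ht hjj hjt')
  have hwt : t * w = w * t := by rw [hwdef, mul_assoc, hjt']
  have hpure : Gd T s → IsKron T s := fun h =>
    h.resolve_right (D.not_swap hs2 ha₀ hl₀ hx (k := g⁻¹) (by rw [hsdef]; group))
  rcases hjc with hjc | hjc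
  · obtain ⟨r, hr⟩ := isConj_iff.1 hjc
    have hr' : r.1 * t * r.1⁻¹ = t * j := congrArg Subtype.val hr
    rcases D.ax_of_kron ha₁ htH ht hwH hwK (g := r.1) (by rw [hwdef, ← hr']; group) with
      ⟨p, hp, hwp⟩ | ⟨y, hy, hwy⟩
    · have hne : w ≠ t := fun e0 => hj1 (Subtype.ext (by
        show j = 1
        rw [hjw, e0, ht2]))
      obtain ⟨r', hr', hjax⟩ := D.ax_mul ha₁ hp (D.ax_comm ha₁ hp ht hwp hwt hne) ht hwp
      rw [← hjw] at hjax
      exact D.kron_of_commAx hno hr' hjax hsH hjs'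
    · have hju : IsP T j a₁ y := by rw [hjw]; exact (D.p_of_ax ht hwy).1
      exact hpure (D.cu hno hno' ha₁ hy htH ht hwH hwy hjj hju hsH hjs')
  · obtain ⟨r, hr⟩ := isConj_iff.1 hjc
    have hr' : r.1 * (g * x * g⁻¹) * r.1⁻¹ = t * j := congrArg Subtype.val hr
    set g' := r.1 * g with hg'
    have hg'H : g' ∈ H := mul_mem r.2 hg
    have hg'x : g' * x = w * g' := by rw [hwdef, hg', ← hr']; group
    obtain ⟨p, q, hp, hq, hwp⟩ := D.p_of_kron ha₀ hl₀ hxH hx hwH hwK hg'x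
    have hgd : Gd T g' := img g' hg'H p q hp hq (by rw [hg'x, mul_inv_cancel_right]; exact hwp)
    obtain ⟨⟨z', hz'H, hz'⟩, ⟨e', he'H, he'⟩⟩ :=
      D.ax_image ha₀ hl₀ hp hq hz₀H hz₀ hw₀H hw₀ hxdef hg'H hgd hwp hg'x
    rcases D.p_ax_comm ha₁ hp hq ht hwp hwt with ⟨c, hc, rfl⟩ | hpa₁
    · refine D.kron_of_commAxB hno' hq (z := j) (fun b v => ?_) hsH hjs'
      show j (T.tau v b) = T.tau v (refl T.fB q b)
      rw [hjw, LinearEquiv.mul_apply, hwp, ht, refl_smul hc, refl_refl ha₁]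
    · obtain ⟨r₀, hr₀, -, htw⟩ := D.ax_mul_p ha₁ hp hpa₁ ht hwp
      rw [← hjw] at htw
      obtain ⟨r₁, hr₁, hz''⟩ := D.ax_mul ha₁ hp hpa₁ ht hz'
      have hP : IsP T j r₁ q := by
        intro v b
        rw [hjw, LinearEquiv.mul_apply, hwp, ht]
        have h1 := hz'' v (refl T.fB q b)
        rw [LinearEquiv.mul_apply, hz', ht] at h1
        exact h1
      exact hpure (D.cu hno hno' hr₁ hq (mul_mem htH hz'H) hz'' he'H he' hjj hP hsH hjs')

end WData

end CfsgLib.MaxSub.TWr
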