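import Cfsg.Agent.Lib.MaxSub.TWr.Invol

/-!
`O3 ⊗ O3` with the exchange of the factors: uniqueness of the axes of the product of two axial involutions,
and the axes of commuting ones.
-/

set_option autoImplicit false
set_option linter.unusedSectionVars false
set_option linter.unusedSimpArgs false
set_option linter.unusedVariables false
set_option linter.style.haveILetI false
set_option maxHeartbeats 1000000

namespace CfsgLib.MaxSub.TWr

open Module
open CfsgLib.MaxSub.TForm

variable {F A B V : Type*} [Field F] [AddCommGroup A] [Module F A] [AddCommGroup B] [Module F B]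
  [AddCommGroup V] [Module F V]

section Refl

variable {M : Type*} [AddCommGroup M] [Module F M] [FiniteDimensional F M] {f : M →ₗ[F] M →ₗ[F] F}

theorem refl_isom (hS : SymNd f) {a : M} (ha : f a a ≠ 0) (x y : M) :
    f (refl f a x) (refl f a y) = f x y := by
  simp only [refl_apply, map_sub, map_smul, LinearMap.sub_apply, LinearMap.smul_apply, smul_eq_mul,
    hS.symm a x, hS.symm a y]
  field_simp
  ring

theorem refl_smul {a : M} {c : F} (hc : c ≠ 0) (x : M) : refl f (c • a) x = refl f a x := by
  simp only [refl_apply, map_smul, LinearMap.smul_apply, smul_eq_mul, smul_smul]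
  congr 1
  rw [div_mul_eq_mul_div, div_mul_eq_mul_div, div_mul_eq_mul_div]
  rcases eq_or_ne (f a a) 0 with h | h
  · rw [h]; simp
  · congr 1
    field_simp

theorem refl_conj (hS : SymNd f) {p : M} (hp : f p p ≠ 0) (a x : M) :
    refl f (refl f p a) x = refl f p (refl f a (refl f p x)) := by
  have h : f (refl f p a) x = f a (refl f p x) := by
    conv_lhs => rw [← refl_refl hp x]
    rw [refl_isom hS hp]
  rw [refl_apply f (refl f p a), refl_isom hS hp, h, refl_apply f a, map_sub, map_smul, refl_refl hp]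

theorem eq_smul_of_refl_eq (hS : SymNd f) {a b : M} (ha : f a a ≠ 0) (hb : f b b ≠ 0)
    (h : ∀ x, refl f a x = refl f b x) : ∃ c : F, c ≠ 0 ∧ b = c • a := by
  have e := h b
  rw [refl_self hb, refl_apply, sub_eq_iff_eq_add, ← two_smul F] at e
  refine ⟨f a b / f a a, fun h0 => hb ?_, ?_⟩
  · have : (2 : F) • b = 0 := by rw [← e, div_mul_eq_mul_div, mul_div_assoc, h0, mul_zero, zero_smul]
    simp [(smul_eq_zero.1 this).resolve_left hS.two]
  · refine smul_right_injective M hS.two ?_
    show (2 : F) • b = (2 : F) • _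
    rw [smul_smul, ← e]
    congr 1
    ring

/-- the axis of an involution commuting with an axial one -/
theorem comm_refl (hS : SymNd f) {a p : M} (ha : f a a ≠ 0) (hp : f p p ≠ 0)
    (h : ∀ x, refl f (refl f a p) x = refl f p x) : (∃ c : F, c ≠ 0 ∧ p = c • a) ∨ f a p = 0 := by
  have hq : f (refl f a p) (refl f a p) ≠ 0 := by rwa [refl_isom hS ha]
  obtain ⟨c, hc, e⟩ := eq_smul_of_refl_eq hS hq hp h
  have e2 : f p p = c * c * f p p := by
    conv_lhs => rw [e]
    simp only [map_smul, LinearMap.smul_apply, smul_eq_mul, refl_isom hS ha]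
    ring
  rcases mul_self_eq_one_iff.1 (mul_right_cancel₀ hp (e2.symm.trans (one_mul _).symm)) with rfl | rfl
  · left
    rw [one_smul, refl_apply, eq_sub_iff_add_eq, ← two_smul F] at e
    refine ⟨f a p / f a a, fun h0 => hp ?_, ?_⟩
    · have : (2 : F) • p = 0 := by rw [e, div_mul_eq_mul_div, mul_div_assoc, h0, mul_zero, zero_smul]
      simp [(smul_eq_zero.1 this).resolve_left hS.two]
    · refine smul_right_injective M hS.two ?_
      show (2 : F) • p = (2 : F) • _
      rw [smul_smul, e]
      congr 1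
      ring
  · right
    rw [neg_smul, one_smul, refl_apply, neg_sub, eq_comm, sub_eq_self, smul_eq_zero, mul_eq_zero,
      div_eq_zero_iff] at e
    rcases e with ((h2 | h2) | h2) | h2
    · exact absurd h2 hS.two
    · exact absurd h2 ha
    · exact h2
    · exact absurd (by simp [h2]) ha

/-- the product of two orthogonal axial involutions -/
theorem refl_mul (hS : SymNd f) (hn : finrank F M = 3) {a : Fin 3 → M} (ha : IsFr f a) {i j k : Fin 3}
    (hij : i ≠ j) (hik : i ≠ k) (hjk : j ≠ k) (x : M) :
    refl f (a i) (refl f (a j) x) = refl f (a k) x := by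
  have hs : ∀ i j k : Fin 3, i ≠ j → i ≠ k → j ≠ k → ∀ n,
      xor (decide (n ≠ j)) (decide (n ≠ i)) = decide (n ≠ k) := by decide
  refine LinearMap.congr_fun (LinearMap.ext_on_range (ha.span_eq_top hn)
    (f := refl f (a i) ∘ₗ refl f (a j)) (g := refl f (a k)) fun n => ?_) x
  rw [LinearMap.comp_apply, refl_frame ha, map_smul, refl_frame ha, refl_frame ha, smul_smul, sgn_mul,
    hs i j k hij hik hjk]

/-- an axial involution is not minus another -/
theorem refl_ne_neg (hS : SymNd f) (hn : finrank F M = 3) {a b : M} (ha : f a a ≠ 0) (hb : f b b ≠ 0) :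
    ¬ ∀ x, refl f a x = -refl f b x := by
  intro h
  obtain ⟨a₁, a₂, hfr⟩ := exists_fr_through hS hn hb
  have key : ∀ v, f b v = 0 → v = (f a v / f a a) • a := fun v hv => by
    have e := h v
    rw [refl_perp hv, neg_neg, refl_apply, sub_eq_iff_eq_add, ← two_smul F] at e
    refine smul_right_injective M hS.two ?_
    show (2 : F) • v = (2 : F) • _
    rw [smul_smul, ← e]
    congr 1
    ring
  have e1 : a₁ = (f a a₁ / f a a) • a := key a₁ (by simpa using hfr.orth 0 1 (by decide))
  have e2 : a₂ = (f a a₂ / f a a) • a := key a₂ (by simpa using hfr.orth 0 2 (by decide))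
  have e : f a₁ a₂ = 0 := by simpa using hfr.orth 1 2 (by decide)
  have n1 : f a₁ a₁ ≠ 0 := by simpa using hfr.aniso 1
  have n2 : f a₂ a₂ ≠ 0 := by simpa using hfr.aniso 2
  rw [e1, e2] at e
  rw [e1] at n1
  rw [e2] at n2
  simp only [map_smul, LinearMap.smul_apply, smul_eq_mul] at e n1 n2
  simp only [mul_ne_zero_iff] at n1 n2
  exact mul_ne_zero n2.1 (mul_ne_zero n1.1 ha) e

end Refl

theorem p_flip {T : Sys F A B V (RingHom.id F)} {g : V ≃ₗ[F] V} {a : A} {b : B} (h : IsP T g a b) :
    IsP (flipSys T) g b a :=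
  fun y x => h x y

namespace WData

variable {T : Sys F A B V (RingHom.id F)} {H : Subgroup (V ≃ₗ[F] V)}
variable [Finite F] [FiniteDimensional F A] [FiniteDimensional F B] [FiniteDimensional F V]

/-- equal pure maps differ by a scalar in each factor -/
theorem tau_scalar (D : WData T H) {α α' : A →ₗ[F] A} {β β' : B →ₗ[F] B}
    (h : ∀ x y, T.tau (α x) (β y) = T.tau (α' x) (β' y)) {b : B} (hb : β b = b) (hbb : T.fB b b ≠ 0) :
    ∀ x, α x = (T.fB (β' b) b / T.fB b b) • α' x := fun x => by
  have e := congrArg (T.C b) (h x b)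
  rw [D.C_tau, D.C_tau, hb] at e
  rw [div_eq_inv_mul, ← smul_smul, ← e, inv_smul_smul₀ hbb]

/-- the axes of a product of axial involutions are unique -/
theorem p_unique (D : WData T H) {k : V ≃ₗ[F] V} {p p' : A} {q q' : B} (hp : T.fA p p ≠ 0)
    (hp' : T.fA p' p' ≠ 0) (hq : T.fB q q ≠ 0) (hq' : T.fB q' q' ≠ 0) (h : IsP T k p q)
    (h' : IsP T k p' q') : (∀ x, refl T.fA p x = refl T.fA p' x) ∧ ∀ y, refl T.fB q y = refl T.fB q' y := by
  have e : ∀ x y, T.tau (refl T.fA p x) (refl T.fB q y) = T.tau (refl T.fA p' x) (refl T.fB q' y) :=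
    fun x y => by rw [← h, h']
  have hα := D.tau_scalar e (refl_self hq) hq
  set c := T.fB (refl T.fB q' q) q / T.fB q q
  have hp0 : p ≠ 0 := fun h0 => hp (by simp [h0])
  have hcc : c * c = 1 := by
    have e1 := refl_refl (f := T.fA) hp p
    rw [hα, hα, map_smul, refl_refl hp', smul_smul] at e1
    exact smul_left_injective F hp0 (e1.trans (one_smul F p).symm)
  rcases mul_self_eq_one_iff.1 hcc with h1 | h1
  · refine ⟨fun x => by rw [hα, h1, one_smul], fun y => D.tau_right_inj (a := p) hp0 ?_⟩
    have e1 := e p y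
    rwa [show refl T.fA p' p = p by
      have := hα p; rw [h1, one_smul, refl_self hp] at this; exact this.symm, refl_self hp] at e1
  · exact absurd (fun x => by rw [hα, h1, neg_smul, one_smul]) (refl_ne_neg D.symA D.dimA hp hp')

/-- a product of axial involutions does not act on the first factor alone -/
theorem p_not_left (D : WData T H) {k : V ≃ₗ[F] V} {p : A} {q : B} (hp : T.fA p p ≠ 0) (hq : T.fB q q ≠ 0)
    (h : IsP T k p q) {α : A →ₗ[F] A} (hk : ∀ x y, k (T.tau x y) = T.tau (α x) y) : False := by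
  have e : ∀ x y, T.tau (α x) (LinearMap.id (R := F) y) = T.tau (refl T.fA p x) (refl T.fB q y) :=
    fun x y => by rw [LinearMap.id_apply, ← hk, h]
  obtain ⟨q₁, hq1, hq1'⟩ := exists_perp D.symB D.dimB hq
  have e1 := D.tau_scalar e (b := q) rfl hq p
  have e2 := D.tau_scalar e (b := q₁) rfl hq1' p
  rw [refl_self hp, refl_self hq, div_self hq, one_smul] at e1
  rw [refl_self hp, refl_perp hq1, map_neg, LinearMap.neg_apply, neg_div, div_self hq1', neg_smul, one_smul,
    e1] at e2
  have : (2 : F) • p = 0 := by rw [two_smul]; nth_rewrite 1 [e2]; exact neg_add_cancel p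
  rw [(smul_eq_zero.1 this).resolve_left D.symA.two] at hp
  exact hp (by simp)

/-- conjugating a product of axial involutions by another -/
theorem p_conj (D : WData T H) {s u : V ≃ₗ[F] V} {p a : A} {q b : B} (hp : T.fA p p ≠ 0)
    (hq : T.fB q q ≠ 0) (hs : IsP T s p q) (hu : IsP T u a b) :
    IsP T (s * u * s) (refl T.fA p a) (refl T.fB q b) := fun x y => by
  rw [LinearEquiv.mul_apply, LinearEquiv.mul_apply, hs, hu, hs, refl_conj D.symA hp, refl_conj D.symB hq]

/-- the axes of two commuting products of axial involutions whose product is another -/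
theorem p_comm_perp (D : WData T H) {s u : V ≃ₗ[F] V} {p a : A} {q b : B} (hp : T.fA p p ≠ 0)
    (hq : T.fB q q ≠ 0) (ha : T.fA a a ≠ 0) (hb : T.fB b b ≠ 0) (hs : IsP T s p q) (hu : IsP T u a b)
    (hc : s * u = u * s) {p' : A} {q' : B} (hp' : T.fA p' p' ≠ 0) (hq' : T.fB q' q' ≠ 0)
    (hsu : IsP T (s * u) p' q') : T.fA a p = 0 ∧ T.fB b q = 0 := by
  have e : s * u * s = u := by rw [hc, mul_assoc, D.p_sq hp hq hs, mul_one]
  have h := D.p_conj hp hq hs hu
  rw [e] at h
  obtain ⟨hA, hB⟩ := D.p_unique (by rwa [refl_isom D.symA hp]) ha (by rwa [refl_isom D.symB hq]) hb h hu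
  constructor
  · rcases comm_refl D.symA hp ha hA with ⟨c, hc', rfl⟩ | h0
    · refine (D.flip.p_not_left hq' hp' (p_flip hsu) (α := refl T.fB q ∘ₗ refl T.fB b) fun y x => ?_).elim
      show s (u (T.tau x y)) = T.tau x _
      rw [hu, hs, refl_smul hc', refl_refl hp]
      rfl
    · rw [D.symA.symm]; exact h0
  · rcases comm_refl D.symB hq hb hB with ⟨c, hc', rfl⟩ | h0
    · refine (D.p_not_left hp' hq' hsu (α := refl T.fA p ∘ₗ refl T.fA a) fun x y => ?_).elim
      show s (u (T.tau x y)) = T.tau _ y
      rw [hu, hs, refl_smul hc', refl_refl hq]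
      rfl
    · rw [D.symB.symm]; exact h0

end WData

end CfsgLib.MaxSub.TWr
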