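import Cfsg.Agent.Lib.MaxSub.TWr.Pencil
import Cfsg.Agent.Lib.MaxSub.TFormMinusSlice

/-!
`O3 ⊗ O3` with the exchange of the factors, no Siegel maps at singular pencils: the elements fixing an
anisotropic slice `a ⊗ B` form a group of order prime to the characteristic.
-/

set_option autoImplicit false
set_option linter.unusedSectionVars false
set_option linter.unusedSimpArgs false
set_option linter.unusedVariables false
set_option linter.style.haveILetI false
set_option maxHeartbeats 1000000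

namespace CfsgLib.MaxSub.TWr

open Module
open CfsgLib.MaxSub.TForm

variable {F A B V : Type*} [Field F] [AddCommGroup A] [Module F A] [AddCommGroup B] [Module F B]
  [AddCommGroup V] [Module F V]

namespace WData

variable {T : Sys F A B V (RingHom.id F)} {H : Subgroup (V ≃ₗ[F] V)}
variable [Finite F] [FiniteDimensional F A] [FiniteDimensional F B] [FiniteDimensional F V]

theorem eich_self {z r : B} (D : WData T H) (hz : T.fB z z = 0) (hr : T.fB r z = 0) :
    eich T.fB z r z = z := by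
  simp [eich_apply, hz, D.symB.symm r z, hr]

theorem eich_shift {z r : B} (D : WData T H) (hz : T.fB z z = 0) (hr : T.fB r z = 0) (c : F) (b : B) :
    eich T.fB z (r + c • z) b = eich T.fB z r b := by
  have h2 := D.symB.two
  simp only [eich_apply, map_add, map_smul, LinearMap.add_apply, LinearMap.smul_apply, smul_eq_mul, hz, hr,
    D.symB.symm r z, mul_zero, add_zero]
  module

/-- the orthogonal of a hyperbolic pair is a line -/
theorem mid_line (D : WData T H) {z e r : B} (Y : Hyp3 T z e r) {s : B} (hsz : T.fB s z = 0)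
    (hse : T.fB s e = 0) : s = (T.fB s r / T.fB r r) • r := by
  refine sub_eq_zero.1 (D.symB.nondeg _ fun w => ?_)
  have hw : w ∈ Submodule.span F (Set.range ![z, e, r]) := by rw [D.span_hyp Y]; trivial
  induction hw using Submodule.span_induction with
  | mem y hy =>
      obtain ⟨i, rfl⟩ := hy
      fin_cases i <;> simp [hsz, hse, Y.rz, Y.re, div_mul_cancel₀ _ Y.rr]
  | zero => simp
  | add p q _ _ hp hq => rw [map_add, hp, hq, add_zero]
  | smul c p _ hp => rw [map_smul, hp, smul_zero]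

theorem aniso_mid (D : WData T H) {z e r : B} (Y : Hyp3 T z e r) {s : B} (hsz : T.fB s z = 0)
    (hse : T.fB s e = 0) (hs0 : s ≠ 0) : T.fB s s ≠ 0 := by
  have h := D.mid_line Y hsz hse
  have hc : T.fB s r / T.fB r r ≠ 0 := fun h0 => hs0 (by rw [h, h0, zero_smul])
  rw [h]
  simp only [map_smul, LinearMap.smul_apply, smul_eq_mul]
  exact mul_ne_zero hc (mul_ne_zero hc Y.rr)

/-- the pure Eichler elements at one hyperbolic pair -/
def eichSub (D : WData T H) {z e : B} (hz : T.fB z z = 0) : Subgroup (V ≃ₗ[F] V) where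
  carrier := {k | k ∈ H ∧ ∃ r, T.fB r z = 0 ∧ T.fB r e = 0 ∧
    ∀ a b, k (T.tau a b) = T.tau a (eich T.fB z r b)}
  one_mem' := ⟨one_mem _, 0, by simp, by simp, fun a b => by rw [SymNd.eich_zero]; rfl⟩
  mul_mem' := by
    rintro k k' ⟨hk, r, h1, h2, h3⟩ ⟨hk', r', h1', h2', h3'⟩
    exact ⟨mul_mem hk hk', r + r', by simp [h1, h1'], by simp [h2, h2'], fun a b => by
      rw [LinearEquiv.mul_apply, h3', h3, D.symB.eich_comp hz h1 h1']⟩
  inv_mem' := by
    rintro k ⟨hk, r, h1, h2, h3⟩
    refine ⟨inv_mem hk, -r, by simp [h1], by simp [h2], fun a b => k.injective ?_⟩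
    rw [ap_inv, h3, D.symB.eich_comp hz h1 (by simp [h1]), add_neg_cancel, SymNd.eich_zero]

theorem mem_eichSub (D : WData T H) {z e : B} {hz : T.fB z z = 0} {k : V ≃ₗ[F] V} :
    k ∈ D.eichSub (e := e) hz ↔ k ∈ H ∧ ∃ r, T.fB r z = 0 ∧ T.fB r e = 0 ∧
      ∀ a b, k (T.tau a b) = T.tau a (eich T.fB z r b) := Iff.rfl

theorem eich_pow (D : WData T H) {z r : B} (hz : T.fB z z = 0) (hr : T.fB r z = 0) {k : V ≃ₗ[F] V}
    (hk : ∀ a b, k (T.tau a b) = T.tau a (eich T.fB z r b)) (n : ℕ) (a : A) (b : B) :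
    (k ^ n) (T.tau a b) = T.tau a (eich T.fB z ((n : F) • r) b) := by
  induction n generalizing b with
  | zero => simp [SymNd.eich_zero]
  | succ n ih =>
      rw [pow_succ, LinearEquiv.mul_apply, hk, ih, D.symB.eich_comp hz (by simp [hr]) hr]
      rw [Nat.cast_succ, add_smul, one_smul]

theorem eich_pow_char (D : WData T H) {z r : B} (hz : T.fB z z = 0) (hr : T.fB r z = 0) {k : V ≃ₗ[F] V}
    (hk : ∀ a b, k (T.tau a b) = T.tau a (eich T.fB z r b)) (p : ℕ) [CharP F p] : k ^ p = 1 :=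
  D.ext_lin fun a b => by rw [D.eich_pow hz hr hk, CharP.cast_eq_zero, zero_smul, SymNd.eich_zero]; rfl

theorem eichSub_comm (D : WData T H) {z e : B} {hz : T.fB z z = 0} :
    IsMulCommutative (D.eichSub (e := e) hz) := by
  refine ⟨⟨fun ⟨k, hk, r, h1, h2, h3⟩ ⟨k', hk', r', h1', h2', h3'⟩ => Subtype.ext (D.ext_lin fun a b => ?_)⟩⟩
  show k (k' _) = k' (k _)
  rw [h3', h3, h3, h3', D.symB.eich_comp hz h1 h1', D.symB.eich_comp hz h1' h1, add_comm]

theorem eichSub_not_cyclic (D : WData T H) {z e r : B} (Y : Hyp3 T z e r) {p : ℕ} [Fact p.Prime]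
    [CharP F p] (hpF : p < Nat.card F) : ¬ IsCyclic (D.eichSub (e := e) Y.zz) := by
  classical
  intro hc
  haveI : Finite V := Module.finite_of_finite F
  haveI : Finite (V ≃ₗ[F] V) := Finite.of_injective _ DFunLike.coe_injective
  obtain ⟨g, hg⟩ := hc.exists_generator
  have hgp : g ^ p = 1 := by
    obtain ⟨hk, r, h1, -, h3⟩ := g.2
    exact Subtype.ext (by rw [SubmonoidClass.coe_pow, D.eich_pow_char Y.zz h1 h3 p]; rfl)
  have hle : Nat.card (D.eichSub (e := e) Y.zz) ≤ p := by
    rw [← orderOf_eq_card_of_forall_mem_zpowers hg]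
    exact orderOf_le_of_pow_eq_one (Fact.out : p.Prime).pos hgp
  have hr : ∀ c : F, T.fB (c • r) z = 0 ∧ T.fB (c • r) e = 0 := fun c => by simp [Y.rz, Y.re]
  choose k hk hkab hkx using fun c : F => D.eichB Y.zz (hr c).1
  let φ : F → D.eichSub (e := e) Y.zz := fun c => ⟨k c, hk c, _, (hr c).1, (hr c).2, hkab c⟩
  obtain ⟨a₀, ha₀⟩ := D.nonzeroA
  have hφ : Function.Injective φ := by
    intro c c' h
    have h1 := LinearEquiv.congr_fun (congrArg Subtype.val h) (T.tau a₀ e)
    change k c _ = k c' _ at h1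
    rw [hkab, hkab] at h1
    have h2 := D.tau_right_inj ha₀ h1
    have e1 := congrArg (fun x => T.fB x r) h2
    simp only [eich_apply, map_add, map_sub, map_smul, LinearMap.add_apply, LinearMap.sub_apply,
      LinearMap.smul_apply, smul_eq_mul, Y.ez, D.symB.symm r z, Y.rz,
      mul_zero, add_zero, zero_add, sub_zero, one_mul, one_smul] at e1
    exact mul_right_cancel₀ Y.rr (by linear_combination e1)
  have h3 := Nat.card_le_card_of_injective φ hφ
  omega

/-- commuting with an anisotropic Eichler element forces preserving its pencil -/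
theorem pen_of_comm (D : WData T H) {z e r : B} (hz : T.fB z z = 0) (hze : T.fB z e = 1) (hrz : T.fB r z = 0)
    (hre : T.fB r e = 0) (hrr : T.fB r r ≠ 0) {n k : V ≃ₗ[F] V}
    (hkx : ∀ x, k x = x + T.tau (T.C z x) r - T.tau (T.C r x + (T.fB r r / 2) • T.C z x) z)
    (hc : ∀ x, n (k x) = k (n x)) (a : A) : ∃ a', n (T.tau a z) = T.tau a' z := by
  have hez : T.fB e z = 1 := by rw [D.symB.symm, hze]
  have hzr : T.fB z r = 0 := by rw [D.symB.symm, hrz]
  have key : ∀ y, k (k y - y) - (k y - y) = T.tau (-(T.fB r r) • T.C z y) z := fun y => by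
    conv_lhs => arg 1; rw [hkx (k y - y)]
    have e1 : T.C z (k y - y) = 0 := by rw [hkx]; simp [D.C_tau, hz, hrz]
    have e2 : T.C r (k y - y) = T.fB r r • T.C z y := by rw [hkx]; simp [D.C_tau, hzr]
    rw [e1, e2]
    simp
  set y := T.tau (-(T.fB r r)⁻¹ • a) e with hy
  have h1 : k (k y - y) - (k y - y) = T.tau a z := by
    rw [key, hy, D.C_tau, hez, one_smul, smul_smul, neg_mul_neg, mul_inv_cancel₀ hrr, one_smul]
  refine ⟨-(T.fB r r) • T.C z (n y), ?_⟩
  rw [← h1, ← key]
  simp only [map_sub, hc]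

/-- a map preserving a pencil preserves its orthogonal -/
theorem perp_of_pen (D : WData T H) {z : B} (hz0 : z ≠ 0) {n : V ≃ₗ[F] V} (hn : n ∈ H)
    (hpen : ∀ a, ∃ a', n (T.tau a z) = T.tau a' z) :
    (∀ a, ∃ a', n⁻¹ (T.tau a z) = T.tau a' z) ∧ ∀ x, T.C z x = 0 → T.C z (n x) = 0 := by
  choose X hX using hpen
  have hinj : Function.Injective X := fun a a' h => D.tau_left_inj hz0 (n.injective (by rw [hX, hX, h]))
  haveI : Finite A := Module.finite_of_finite F
  have hsurj := (Finite.injective_iff_surjective (f := X)).1 hinj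
  refine ⟨fun a => ?_, fun x hx => D.C_eq_zero fun a => ?_⟩
  · obtain ⟨a', rfl⟩ := hsurj a
    exact ⟨a', by rw [← hX, inv_ap]⟩
  · obtain ⟨a', rfl⟩ := hsurj a
    rw [← hX, D.isom n hn, D.form_C, hx, map_zero, LinearMap.zero_apply]

/-- conjugation by pure Eichler elements preserves the fixer of a slice -/
theorem fixA_conj (D : WData T H) {a₀ : A} {z r : B} (hz : T.fB z z = 0) (hr : T.fB r z = 0)
    {k n : V ≃ₗ[F] V} (hk : k ∈ H) (hkab : ∀ a b, k (T.tau a b) = T.tau a (eich T.fB z r b))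
    (hn : n ∈ fixA T H a₀) : k * n * k⁻¹ ∈ fixA T H a₀ := by
  refine ⟨mul_mem (mul_mem hk hn.1) (inv_mem hk), fun b => ?_⟩
  have hki : k⁻¹ (T.tau a₀ b) = T.tau a₀ (eich T.fB z (-r) b) := k.injective (by
    rw [ap_inv, hkab, D.symB.eich_comp hz hr (by simp [hr]), add_neg_cancel, SymNd.eich_zero])
  show k (n (k⁻¹ (T.tau a₀ b))) = _
  rw [hki, hn.2, ← hki, ap_inv]

/-- a unipotent isometry of a three-space fixing an anisotropic vector -/
theorem unip_axis (D : WData T H) {α : Module.End F A} (hα : ∀ x y, T.fA (α x) (α y) = T.fA x y) {a : A}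
    (ha : T.fA a a ≠ 0) (hfix : α a = a) {N : ℕ} (hN : (α - 1) ^ N = 0) : ∀ x, α x = x := by
  classical
  set M : Module.End F A := α - 1 with hM
  have hs := D.symA.symm
  have hMx : ∀ x, α x = x + M x := fun x => by simp [hM]
  have hker : ∀ k x, M k = 0 → T.fA (M x) k = 0 := fun k x hk => by
    have h := hα x k
    rw [hMx x, hMx k, hk, add_zero, map_add, LinearMap.add_apply] at h
    linear_combination h
  by_contra hne
  push Not at hne
  obtain ⟨x₀, hx₀⟩ := hne
  have hM0 : M ≠ 0 := fun e => hx₀ (by rw [hMx, e]; simp)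
  obtain ⟨m, hm, hm1, hm2⟩ : ∃ m, 1 ≤ m ∧ M ^ (m + 1) = 0 ∧ M ^ m ≠ 0 := by
    have hex : ∃ n, M ^ n = 0 := ⟨N, hN⟩
    have h0 := Nat.find_spec hex
    have hmin := fun i => Nat.find_min hex (m := i)
    rcases hn : Nat.find hex with _ | _ | n
    · rw [hn, pow_zero] at h0
      exact absurd (by rw [← one_mul M, h0, zero_mul]) hM0
    · rw [hn, pow_one] at h0; exact absurd h0 hM0
    · exact ⟨n + 1, by omega, by rw [hn] at h0; exact h0, hmin _ (by omega)⟩
  obtain ⟨w, hw⟩ : ∃ w, (M ^ m) w ≠ 0 := by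
    by_contra hall
    push Not at hall
    exact hm2 (LinearMap.ext hall)
  set z := (M ^ m) w with hz
  have hMz : M z = 0 := by
    show (M * M ^ m) w = 0
    rw [← pow_succ', hm1]; rfl
  have hMa : M a = 0 := by simp [hM, hfix]
  obtain ⟨m', rfl⟩ : ∃ m', m = m' + 1 := ⟨m - 1, by omega⟩
  have hzr : z = M ((M ^ m') w) := by rw [hz, pow_succ']; rfl
  have hza : T.fA z a = 0 := by rw [hzr]; exact hker a _ hMa
  have hzz : T.fA z z = 0 := by
    conv_lhs => arg 1; rw [hzr]
    exact hker z _ hMz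
  obtain ⟨u, huu, hzu, huz⟩ := D.symA.partner hw hzz
  have hind : LinearIndependent F ![a, z, u] := by
    rw [Fintype.linearIndependent_iff]
    intro c hc
    simp only [Fin.sum_univ_three, Matrix.cons_val_zero, Matrix.cons_val_one, Matrix.cons_val_two,
      Matrix.head_cons, Matrix.tail_cons] at hc
    have k1 := congrArg (fun y => T.fA y z) hc
    simp only [map_add, map_smul, LinearMap.add_apply, LinearMap.smul_apply, smul_eq_mul, map_zero,
      LinearMap.zero_apply, hs z a, hza, hzz, huz, mul_zero, mul_one, zero_add] at k1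
    have k0 := congrArg (fun y => T.fA y a) hc
    simp only [map_add, map_smul, LinearMap.add_apply, LinearMap.smul_apply, smul_eq_mul, map_zero,
      LinearMap.zero_apply, hza, k1, mul_zero, zero_mul, add_zero] at k0
    have c0 := (mul_eq_zero.1 k0).resolve_right ha
    intro i
    fin_cases i
    · exact c0
    · rw [c0, k1, zero_smul, zero_smul, zero_add, add_zero] at hc
      exact (smul_eq_zero.1 hc).resolve_right hw
    · exact k1
  have hsp : Submodule.span F (Set.range ![a, z, u]) = ⊤ :=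
    hind.span_eq_top_of_card_eq_finrank (by rw [D.dimA]; rfl)
  have hline : ∀ x, M x = T.fA (M x) u • z := fun x => sub_eq_zero.1 (D.symA.nondeg _ fun y => by
    have hy : y ∈ Submodule.span F (Set.range ![a, z, u]) := by rw [hsp]; trivial
    induction hy using Submodule.span_induction with
    | mem y hy =>
        obtain ⟨i, rfl⟩ := hy
        fin_cases i <;>
          simp [hza, hzz, hzu, hker a x hMa, hker z x hMz, map_sub, map_smul]
    | zero => simp
    | add p q _ _ hp hq => rw [map_add, hp, hq, add_zero]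
    | smul c p _ hp => rw [map_smul, hp, smul_zero])
  have hMu : M u = 0 := by
    set c := T.fA (M u) u with hc
    have h := hα u u
    rw [hMx, hline u, ← hc] at h
    simp only [map_add, map_smul, LinearMap.add_apply, LinearMap.smul_apply, smul_eq_mul, hzz, hzu, huz,
      mul_zero, mul_one, add_zero] at h
    have h2 : (2 : F) * c = 0 := by linear_combination h
    rw [hline u, ← hc, (mul_eq_zero.1 h2).resolve_left D.symA.two, zero_smul]
  refine hM0 (LinearMap.ext fun x => ?_)
  have hx : x ∈ Submodule.span F (Set.range ![a, z, u]) := by rw [hsp]; trivial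
  induction hx using Submodule.span_induction with
  | mem y hy =>
      obtain ⟨i, rfl⟩ := hy
      fin_cases i
      exacts [hMa, hMz, hMu]
  | zero => simp
  | add p q _ _ hp hq => rw [map_add, hp, hq]; simp
  | smul c p _ hp => rw [map_smul, hp]; simp

/-- a `p`-element of the fixer of a slice commuting with the Eichler elements at a pair is trivial -/
theorem fix_p_trivial (D : WData T H) (hno : NoFrame T H) {z e r : B} (Y : Hyp3 T z e r) {a₀ : A}
    (ha₀ : T.fA a₀ a₀ ≠ 0) {p : ℕ} [Fact p.Prime] [CharP F p] {n : V ≃ₗ[F] V} (hn : n ∈ fixA T H a₀)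
    (hc : ∀ k ∈ D.eichSub (e := e) Y.zz, n * k = k * n) {j : ℕ} (hj : n ^ p ^ j = 1) : n = 1 := by
  have hz0 : z ≠ 0 := fun h => by have := Y.ze; rw [h, map_zero] at this; exact zero_ne_one this
  have ha0 : a₀ ≠ 0 := fun h => ha₀ (by simp [h])
  obtain ⟨k1, hk1, hk1ab, hk1x⟩ := D.eichB Y.zz Y.rz
  have c1 : ∀ x, n (k1 x) = k1 (n x) := fun x =>
    LinearEquiv.congr_fun (hc k1 ⟨hk1, r, Y.rz, Y.re, hk1ab⟩) x
  have hpen := D.pen_of_comm Y.zz Y.ze Y.rz Y.re Y.rr hk1x c1
  obtain ⟨-, hperp⟩ := D.perp_of_pen hz0 hn.1 hpen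
  let X : Module.End F A := T.C e ∘ₗ (n : V →ₗ[F] V) ∘ₗ T.tau.flip z
  have hX : ∀ a, n (T.tau a z) = T.tau (X a) z := fun a => by
    obtain ⟨a', ha'⟩ := hpen a
    have : X a = a' := by
      show T.C e (n (T.tau a z)) = a'
      rw [ha', D.C_tau, Y.ze, one_smul]
    rw [this, ha']
  have hzr : ∀ r, T.fB r z = 0 → T.fB z r = 0 := fun r hr => by rw [D.symB.symm, hr]
  have hmid : ∀ r (k : V ≃ₗ[F] V), T.fB r z = 0 →
      (∀ x, k x = x + T.tau (T.C z x) r - T.tau (T.C r x + (T.fB r r / 2) • T.C z x) z) →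
      (∀ x, n (k x) = k (n x)) → ∀ x, T.C z x = 0 → T.C r (n x) = X (T.C r x) := by
    intro r k hr hkx hk x hx
    have h := hk x
    rw [hkx, hkx, hx, hperp x hx] at h
    simp only [map_zero, LinearMap.zero_apply, add_zero, smul_zero, map_sub, hX, sub_right_inj] at h
    exact (D.tau_left_inj hz0 h).symm
  have hX' : ∀ a, T.C z (n (T.tau a e)) = X a := by
    intro a
    have h := congrArg (T.C r) (c1 (T.tau a e))
    rw [hk1x, hk1x (n (T.tau a e))] at h
    have er : T.C r (n (T.tau a r)) = T.fB r r • X a := by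
      rw [hmid r k1 Y.rz hk1x c1 _ (by rw [D.C_tau, Y.rz, zero_smul]), D.C_tau, map_smul]
    have her : T.fB e r = 0 := by rw [D.symB.symm, Y.re]
    simp only [D.C_tau, Y.ez, her, one_smul, zero_smul, zero_add, map_add, map_sub, map_smul,
      LinearMap.add_apply, LinearMap.smul_apply, hX, er, hzr _ Y.rz, smul_zero, add_zero, sub_zero] at h
    exact (smul_right_injective A Y.rr (add_left_cancel h)).symm
  have hXiso : ∀ a a', T.fA (X a) (X a') = T.fA a a' := fun a a' => by
    have h := D.isom n hn.1 (T.tau a e) (T.tau a' z)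
    rw [hX, D.form_C, hX', D.form_tau, Y.ez, mul_one] at h
    exact h
  have hXa : X a₀ = a₀ := by
    show T.C e (n (T.tau a₀ z)) = a₀
    rw [hn.2, D.C_tau, Y.ze, one_smul]
  have hpow : ∀ (i : ℕ) a, (n ^ i) (T.tau a z) = T.tau ((X ^ i) a) z := by
    intro i
    induction i with
    | zero => intro a; rfl
    | succ i ih => intro a; rw [pow_succ, LinearEquiv.mul_apply, hX, ih, pow_succ, Module.End.mul_apply]
  haveI : Nontrivial A := ⟨a₀, 0, ha0⟩
  haveI : CharP (Module.End F A) p :=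
    charP_of_injective_algebraMap (algebraMap F (Module.End F A)).injective p
  have hXN : (X - 1) ^ p ^ j = 0 := by
    rw [sub_pow_char_pow_of_commute _ _ (Commute.one_right _), one_pow, sub_eq_zero]
    refine LinearMap.ext fun a => D.tau_left_inj hz0 ?_
    rw [← hpow, hj]
    rfl
  have hX1 := D.unip_axis hXiso ha₀ hXa hXN
  refine D.rs_trivial hno Y hn.1 ⟨fun a => by rw [hX, hX1], fun x hx => ?_⟩ ha0 hn.2
  refine ⟨T.C e (n x - x), ?_⟩
  have h := D.decomp Y (n x - x)
  rw [map_sub (T.C z), hperp x hx, hx, sub_zero, map_zero, LinearMap.zero_apply, add_zero,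
    map_sub (T.C r), hmid r k1 Y.rz hk1x c1 x hx, hX1, sub_self, smul_zero, map_zero,
    LinearMap.zero_apply, add_zero] at h
  rw [← h, add_sub_cancel]

theorem eichSub_le_normalizer (D : WData T H) {z e r : B} (Y : Hyp3 T z e r) (a₀ : A) :
    D.eichSub (e := e) Y.zz ≤ Subgroup.normalizer (fixA T H a₀ : Set (V ≃ₗ[F] V)) := by
  haveI : Finite V := Module.finite_of_finite F
  haveI : Finite (V ≃ₗ[F] V) := Finite.of_injective _ DFunLike.coe_injective
  rw [Subgroup.le_normalizer_iff]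
  intro k hk n hn
  obtain ⟨hkH, r, h1, -, h3⟩ := hk
  exact D.fixA_conj Y.zz h1 hkH h3 hn

theorem eichSub_pGroup (D : WData T H) {z e : B} {hz : T.fB z z = 0} (p : ℕ) [CharP F p] :
    IsPGroup p (D.eichSub (e := e) hz) := fun k => ⟨1, by
  obtain ⟨hk, r, h1, -, h3⟩ := k.2
  exact Subtype.ext (by rw [pow_one, SubmonoidClass.coe_pow, D.eich_pow_char hz h1 h3 p]; rfl)⟩

/-- the fixer of a slice has order prime to `p` -/
theorem fix_not_dvd (D : WData T H) (hno : NoFrame T H) {a₀ : A} (ha₀ : T.fA a₀ a₀ ≠ 0) (p : ℕ)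
    [Fact p.Prime] [CharP F p] : ¬ p ∣ Nat.card (fixA T H a₀) := by
  intro hdvd
  haveI : Finite V := Module.finite_of_finite F
  haveI : Finite (V ≃ₗ[F] V) := Finite.of_injective _ DFunLike.coe_injective
  obtain ⟨z, hz0, hz⟩ := D.symB.exists_iso_top (by rw [D.dimB])
  obtain ⟨e, r, Y⟩ := D.exists_hyp hz0 hz
  set N := fixA T H a₀ with hN
  set U := D.eichSub (e := e) Y.zz with hU
  have hUn := D.eichSub_le_normalizer Y a₀
  set G := N ⊔ U
  have hG : G ≤ Subgroup.normalizer (N : Set (V ≃ₗ[F] V)) := sup_le Subgroup.le_normalizer hUn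
  haveI hNn : (N.subgroupOf G).Normal := Subgroup.normal_subgroupOf_of_le_normalizer hG
  have hUp : IsPGroup p (U.subgroupOf G) :=
    (D.eichSub_pGroup p).comap_subtype
  obtain ⟨Q, hQ⟩ := hUp.exists_le_sylow
  obtain ⟨n, hn⟩ := exists_prime_orderOf_dvd_card' p hdvd
  let n' : G := ⟨n.1, Subgroup.mem_sup_left n.2⟩
  have hn'p : IsPGroup p (Subgroup.zpowers n') := by
    have ho : orderOf n' = p := by
      rw [← hn, ← Subgroup.orderOf_coe n', ← Subgroup.orderOf_coe n]
    refine IsPGroup.of_card (n := 1) ?_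
    rw [Nat.card_zpowers, ho, pow_one]
  obtain ⟨Q', hQ'⟩ := hn'p.exists_le_sylow
  obtain ⟨g, hg⟩ := MulAction.exists_smul_eq G Q' Q
  have hmem : g * n' * g⁻¹ ∈ (Q : Subgroup G) := by
    rw [← hg, Sylow.coe_subgroup_smul]
    exact ⟨n', hQ' (Subgroup.mem_zpowers _), rfl⟩
  have hmemN : g * n' * g⁻¹ ∈ N.subgroupOf G := hNn.conj_mem n' n.2 g
  haveI : Group.IsNilpotent (Q : Subgroup G) := Q.2.isNilpotent
  have hne : (N.subgroupOf G).subgroupOf (Q : Subgroup G) ≠ ⊥ := fun h => by
    have h1 : (⟨g * n' * g⁻¹, hmem⟩ : (Q : Subgroup G)) ∈ (N.subgroupOf G).subgroupOf (Q : Subgroup G) := hmemN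
    rw [h, Subgroup.mem_bot, Subtype.ext_iff] at h1
    have h2 : n' = 1 := by
      have := congrArg (fun x => g⁻¹ * x * g) h1
      simpa [mul_assoc] using this
    have h3 : n = 1 := Subtype.ext (congrArg Subtype.val h2 :)
    rw [h3, orderOf_one] at hn
    exact (Fact.out : p.Prime).one_lt.ne hn
  haveI : Nontrivial ↥((N.subgroupOf G).subgroupOf (Q : Subgroup G) ⊓ Subgroup.center (Q : Subgroup G)) :=
    (Subgroup.nontrivial_iff_ne_bot _).2 (CfsgLib.Solvable.normal_inf_center_ne_bot _ hne)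
  obtain ⟨⟨c, hcN, hcC⟩, hc1⟩ := exists_ne (1 : ↥((N.subgroupOf G).subgroupOf (Q : Subgroup G) ⊓
    Subgroup.center (Q : Subgroup G)))
  obtain ⟨j, hj⟩ := Q.2 c
  have hone := D.fix_p_trivial hno Y ha₀ (n := ((c : G) : V ≃ₗ[F] V)) hcN (fun k hk => ?_) (p := p) (j := j)
    (congrArg (fun x : (Q : Subgroup G) => ((x : G) : V ≃ₗ[F] V)) hj)
  · exact hc1 (Subtype.ext (Subtype.ext (Subtype.ext hone)))
  · let kG : G := ⟨k, Subgroup.mem_sup_right hk⟩
    have hkQ : kG ∈ (Q : Subgroup G) := hQ hk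
    have h := Subgroup.mem_center_iff.1 hcC ⟨kG, hkQ⟩
    exact (congrArg (fun x : (Q : Subgroup G) => ((x : G) : V ≃ₗ[F] V)) h).symm

end WData

end CfsgLib.MaxSub.TWr
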